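import Mathlib

/-!
# The arithmetic of groups partitioned by centralizers of index at most two in their normalizers
-/

set_option autoImplicit false

namespace Cfsg.Agent.Perm.TransCoprimeLower

/-- three centralizer types with ordered indices -/
theorem three_terms {m a b c x y w : ℕ} (ha : 2 ≤ a) (hb : 2 ≤ b) (hc : 2 ≤ c)
    (hax : 2 * a * x = m) (hby : 2 * b * y = m) (hcw : 2 * c * w = m) (hm : 2 ≤ m)
    (hsum : 2 * (x + y + w) = m + 2) (hxy : y ≤ x) (hyw : w ≤ y) :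
    m + 2 ≤ 2 * (a + b + c - 3) ∨ (m = 12 ∧ a + b + c = 8) ∨ (m = 24 ∧ a + b + c = 9) ∨
      (m = 60 ∧ a + b + c = 10 ∧ a ≤ 5 ∧ b ≤ 5 ∧ c ≤ 5) := by
  have ha2 : a = 2 := by
    by_contra hne
    have h3 : 3 * x ≤ a * x := Nat.mul_le_mul_right x (by omega)
    rw [mul_assoc] at hax
    omega
  subst ha2
  have hx : 0 < x := by omega
  have hb3 : b ≤ 3 := by
    by_contra hne
    have h4 : 4 * y ≤ b * y := Nat.mul_le_mul_right y (by omega)
    rw [mul_assoc] at hby
    omega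
  rcases (show b = 2 ∨ b = 3 by omega) with rfl | rfl
  · have hw : w = 1 := by omega
    subst hw
    omega
  · have hc5 : c ≤ 5 := by
      by_contra hne
      have h6 : 6 * w ≤ c * w := Nat.mul_le_mul_right w (by omega)
      rw [mul_assoc] at hcw
      omega
    interval_cases c <;> omega

/-- three centralizer types -/
theorem three_any {m a b c x y w : ℕ} (ha : 2 ≤ a) (hb : 2 ≤ b) (hc : 2 ≤ c)
    (hax : 2 * a * x = m) (hby : 2 * b * y = m) (hcw : 2 * c * w = m) (hm : 2 ≤ m)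
    (hsum : 2 * (x + y + w) = m + 2) :
    m + 2 ≤ 2 * (a + b + c - 3) ∨ (m = 12 ∧ a + b + c = 8) ∨ (m = 24 ∧ a + b + c = 9) ∨
      (m = 60 ∧ a + b + c = 10 ∧ a ≤ 5 ∧ b ≤ 5 ∧ c ≤ 5) := by
  rcases (show (y ≤ x ∧ w ≤ y) ∨
      (w ≤ x ∧ y ≤ w) ∨
      (x ≤ y ∧ w ≤ x) ∨
      (w ≤ y ∧ x ≤ w) ∨
      (x ≤ w ∧ y ≤ x) ∨
      (y ≤ w ∧ x ≤ y) by omega) with
    ⟨k1, k2⟩ | ⟨k1, k2⟩ | ⟨k1, k2⟩ | ⟨k1, k2⟩ | ⟨k1, k2⟩ | ⟨k1, k2⟩
  · rcases three_terms ha hb hc hax hby hcw hm (by omega) k1 k2 with r | r | r | r <;> omega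
  · rcases three_terms ha hc hb hax hcw hby hm (by omega) k1 k2 with r | r | r | r <;> omega
  · rcases three_terms hb ha hc hby hax hcw hm (by omega) k1 k2 with r | r | r | r <;> omega
  · rcases three_terms hb hc ha hby hcw hax hm (by omega) k1 k2 with r | r | r | r <;> omega
  · rcases three_terms hc ha hb hcw hax hby hm (by omega) k1 k2 with r | r | r | r <;> omega
  · rcases three_terms hc hb ha hcw hby hax hm (by omega) k1 k2 with r | r | r | r <;> omega

/-- two centralizer types -/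
theorem two_terms {m a b x y : ℕ} (ha : 2 ≤ a) (hb : 2 ≤ b) (hax : a * x = m) (hby : 2 * b * y = m)
    (hm : 2 ≤ m) (hsum : 2 * (x + y) = m + 2) :
    m + 2 ≤ 2 * (2 * (a - 1) + (b - 1)) ∨ (m = 12 ∧ 2 * (a - 1) + (b - 1) = 5) := by
  have h2y : 2 * y ≤ b * y := Nat.mul_le_mul_right y hb
  rw [mul_assoc] at hby
  have ha3 : a ≤ 3 := by
    by_contra hne
    have h4 : 4 * x ≤ a * x := Nat.mul_le_mul_right x (by omega)
    omega
  rcases (show a = 2 ∨ a = 3 by omega) with rfl | rfl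
  · have hy : y = 1 := by omega
    subst hy
    omega
  · have hb2 : b = 2 := by
      by_contra hne
      have h3 : 3 * y ≤ b * y := Nat.mul_le_mul_right y (by omega)
      omega
    subst hb2
    omega

/-- the possible systems -/
theorem cases_of_equation {t m : ℕ} (hm : 2 ≤ m) (e d g : Fin t → ℕ) (he : ∀ i, 2 ≤ e i)
    (hg1 : ∀ i, 1 ≤ g i) (hg2 : ∀ i, g i ≤ 2) (hed : ∀ i, 2 * e i * d i = g i * m)
    (hsum : (∑ i, (e i - 1) * d i) + 1 = m) :
    m + 2 ≤ 2 * ∑ i, g i * (e i - 1) ∨ (m = 12 ∧ (∑ i, g i * (e i - 1)) = 5) ∨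
      (m = 24 ∧ (∑ i, g i * (e i - 1)) = 6) ∨
      (m = 60 ∧ (∑ i, g i * (e i - 1)) = 7 ∧ ∀ i, e i ≤ 5) := by
  have hterm : ∀ i, 2 * ((e i - 1) * d i) + 2 * d i = g i * m := fun i => by
    rw [← hed i]
    obtain ⟨e', he'⟩ : ∃ e', e i = e' + 1 := ⟨e i - 1, by have := he i; omega⟩
    rw [he', Nat.add_sub_cancel]
    ring
  have hd : ∀ i, 1 ≤ d i := fun i => Nat.one_le_iff_ne_zero.2 fun h => by
    have h1 := hed i
    rw [h, mul_zero] at h1
    have := Nat.mul_pos (hg1 i) (show 0 < m by omega)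
    omega
  have hd4 : ∀ i, 4 * d i ≤ g i * m := fun i => by
    rw [← hed i]
    exact Nat.mul_le_mul_right _ (by have := he i; omega)
  have hG : (∑ i, g i) * m = 2 * (m - 1) + 2 * ∑ i, d i := by
    rw [Finset.sum_mul, ← Finset.sum_congr rfl fun i _ => hterm i, Finset.sum_add_distrib,
      ← Finset.mul_sum, ← Finset.mul_sum, ← hsum, Nat.add_sub_cancel]
  have hD4 : 4 * ∑ i, d i ≤ (∑ i, g i) * m := by
    rw [Finset.mul_sum, Finset.sum_mul]
    exact Finset.sum_le_sum fun i _ => hd4 i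
  have hG3 : (∑ i, g i) ≤ 3 := by
    by_contra h
    have : 4 * m ≤ (∑ i, g i) * m := Nat.mul_le_mul_right m (by omega)
    omega
  have htG : t ≤ ∑ i, g i :=
    le_trans (by simp) (Finset.sum_le_sum (f := fun _ => 1) fun i _ => hg1 i)
  have ht : t ≤ 3 := htG.trans hG3
  interval_cases t
  · simp at hsum
    omega
  · simp only [Fin.sum_univ_one] at hG hG3 hsum ⊢
    have := hg1 0
    have := hg2 0
    have h1 := hed 0
    have := hd 0
    rcases (show g 0 = 1 ∨ g 0 = 2 by omega) with h | h <;> rw [h] at hG h1 ⊢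
    · omega
    · have h3 : d 0 = 1 := by omega
      rw [h3, mul_one] at hsum
      omega
  · simp only [Fin.sum_univ_two, Fin.forall_fin_two] at *
    obtain ⟨g0, g1⟩ := hg1
    obtain ⟨g0', g1'⟩ := hg2
    obtain ⟨e0, e1⟩ := hed
    obtain ⟨d0, d1⟩ := hd
    obtain ⟨a0, a1⟩ := he
    rcases (show (g 0 = 1 ∧ g 1 = 1) ∨ (g 0 = 2 ∧ g 1 = 1) ∨ (g 0 = 1 ∧ g 1 = 2) by omega) with
      ⟨h0, h1⟩ | ⟨h0, h1⟩ | ⟨h0, h1⟩ <;> rw [h0, h1] at hG ⊢ <;> rw [h0] at e0 <;> rw [h1] at e1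
    · omega
    · rw [one_mul] at e1
      have e0' : e 0 * d 0 = m := by rw [mul_assoc] at e0; omega
      rcases two_terms a0 a1 e0' e1 hm (by omega) with h | h
      · left; omega
      · right; left; omega
    · rw [one_mul] at e0
      have e1' : e 1 * d 1 = m := by rw [mul_assoc] at e1; omega
      rcases two_terms a1 a0 e1' e0 hm (by omega) with h | h
      · left; omega
      · right; left; omega
  · simp only [Fin.sum_univ_three] at *
    have := hg1 0
    have := hg1 1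
    have := hg1 2
    have h0 : g 0 = 1 := by omega
    have h1 : g 1 = 1 := by omega
    have h2 : g 2 = 1 := by omega
    have e0 := hed 0
    have e1 := hed 1
    have e2 := hed 2
    rw [h0, one_mul] at e0
    rw [h1, one_mul] at e1
    rw [h2, one_mul] at e2
    simp only [h0, h1, h2, one_mul] at hG ⊢
    have ha := he 0
    have hb := he 1
    have hc := he 2
    have hall : ∀ (P : Prop), P = (e 0 ≤ 5 ∧ e 1 ≤ 5 ∧ e 2 ≤ 5) → P → ∀ i, e i ≤ 5 := by
      intro P hP h i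
      rw [hP] at h
      fin_cases i <;> simp [h.1, h.2.1, h.2.2]
    rcases three_any ha hb hc e0 e1 e2 hm (by omega) with h | h | h | h
    · left; omega
    · right; left; omega
    · right; right; left; omega
    · exact Or.inr (Or.inr (Or.inr ⟨h.1, by omega, hall _ rfl h.2.2⟩))

end Cfsg.Agent.Perm.TransCoprimeLower
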