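import Mathlib
import Cfsg.Agent.Lib.Perm.TransCoprime.Count
import Cfsg.Agent.Lib.Perm.TransCoprimeLower.Arith

/-!
# Class numbers of groups partitioned by self-centralizing abelian centralizers
-/

set_option autoImplicit false
set_option linter.style.haveILetI false

namespace Cfsg.Agent.Perm.TransCoprimeLower

open scoped Pointwise

variable {G : Type*} [Group G]

theorem smul_centralizer (a : ConjAct G) (g : G) :
    a • Subgroup.centralizer ({g} : Set G) = Subgroup.centralizer ({a • g} : Set G) := by
  ext y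
  rw [Subgroup.mem_pointwise_smul_iff_inv_smul_mem, Subgroup.mem_centralizer_singleton_iff,
    Subgroup.mem_centralizer_singleton_iff, ← (MulDistribMulAction.toMulEquiv G a).injective.eq_iff]
  simp only [MulDistribMulAction.toMulEquiv_apply, smul_mul', smul_inv_smul]

/-- a centralizer has index one or two in its normalizer -/
theorem normalizer_facts [Finite G] {g : G}
    (hN : Nat.card {y : G // IsConj g y ∧ y ∈ Subgroup.centralizer ({g} : Set G)} ≤ 2) :
    ∃ f, 1 ≤ f ∧ f ≤ 2 ∧
      Nat.card (MulAction.orbit (ConjAct G) (Subgroup.centralizer ({g} : Set G))) *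
        (f * Nat.card (Subgroup.centralizer ({g} : Set G))) = Nat.card G := by
  classical
  set C := Subgroup.centralizer ({g} : Set G) with hC
  set S := MulAction.stabilizer (ConjAct G) C
  set T := MulAction.stabilizer (ConjAct G) g
  have hTS : T ≤ S := fun a ha => by
    show a • C = C
    rw [hC, smul_centralizer, show a • g = g from ha]
  have hT : Nat.card T = Nat.card C := by
    rw [hC, Subgroup.centralizer_eq_comap_stabilizer]
    refine Nat.card_congr
      { toFun := fun a => ⟨ConjAct.ofConjAct (a : ConjAct G), a.2⟩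
        invFun := fun a => ⟨ConjAct.toConjAct (a : G), a.2⟩
        left_inv := fun a => rfl
        right_inv := fun a => rfl }
  refine ⟨Nat.card (MulAction.orbit S g), ?_, ?_, ?_⟩
  · haveI : Nonempty (MulAction.orbit S g) := ⟨⟨g, MulAction.mem_orbit_self g⟩⟩
    exact Nat.card_pos
  · refine (Nat.card_le_card_of_injective (fun y : MulAction.orbit S g => (⟨(y : G), ?_, ?_⟩ :
      {y : G // IsConj g y ∧ y ∈ Subgroup.centralizer ({g} : Set G)})) ?_).trans hN
    · obtain ⟨a, ha⟩ := y.2
      have h1 : IsConj g ((a : ConjAct G) • g) := by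
        rw [ConjAct.smul_def]
        exact isConj_iff.2 ⟨_, rfl⟩
      rw [← ha]
      exact h1
    · obtain ⟨a, ha⟩ := y.2
      have h1 : (a : ConjAct G) • g ∈ (a : ConjAct G) • C :=
        Subgroup.smul_mem_pointwise_smul g (a : ConjAct G) C
          (Subgroup.mem_centralizer_singleton_iff.2 rfl)
      rw [show (a : ConjAct G) • C = C from a.2] at h1
      rw [← ha]
      exact h1
    · intro y z h
      exact Subtype.ext (by simpa using h)
  · have h1 : Nat.card (MulAction.orbit S g) * Nat.card C = Nat.card S := by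
      have h2 : Nat.card (MulAction.stabilizer S g) = Nat.card C := by
        rw [← hT]
        exact Nat.card_congr
          { toFun := fun a => ⟨((a : S) : ConjAct G), a.2⟩
            invFun := fun a => ⟨⟨a, hTS a.2⟩, a.2⟩
            left_inv := fun a => rfl
            right_inv := fun a => rfl }
      rw [← h2, Nat.card_congr (MulAction.orbitEquivQuotientStabilizer S g),
        ← Subgroup.card_eq_card_quotient_mul_card_subgroup]
    rw [h1, Nat.card_congr (MulAction.orbitEquivQuotientStabilizer (ConjAct G) C),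
      ← Subgroup.card_eq_card_quotient_mul_card_subgroup]
    exact Nat.card_congr ConjAct.ofConjAct.toEquiv

/-- the centralizer of an element outside `Z` -/
theorem centralizer_facts [Finite G] {Z : Subgroup G} (hZ : Z ≤ Subgroup.center G) {g : G} (hg : g ∉ Z) :
    ∃ e, 2 ≤ e ∧ Nat.card (Subgroup.centralizer ({g} : Set G)) = e * Nat.card Z := by
  set C := Subgroup.centralizer ({g} : Set G)
  have hle : Z ≤ C := fun x hx =>
    Subgroup.mem_centralizer_singleton_iff.2 (Subgroup.mem_center_iff.1 (hZ hx) g).symm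
  have hgC : g ∈ C := Subgroup.mem_centralizer_singleton_iff.2 rfl
  refine ⟨(Z.subgroupOf C).index, ?_, ?_⟩
  · by_contra hlt
    have h1 : (Z.subgroupOf C).index = 1 := by
      have := Nat.pos_of_ne_zero ((Z.subgroupOf C).index_ne_zero_of_finite)
      omega
    exact hg (Subgroup.relIndex_eq_one.1 h1 hgC)
  · rw [← Nat.card_congr (Subgroup.subgroupOfEquivOfLe hle).toEquiv, Subgroup.index_mul_card]

/-- the class number of such a group -/
theorem classes_cases [Finite G] (Z : Subgroup G) (hZ : Z ≤ Subgroup.center G) (hZtop : Z ≠ ⊤)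
    (hC : ∀ g ∉ Z, ∀ y ∈ Subgroup.centralizer ({g} : Set G), y ∉ Z →
      Subgroup.centralizer ({y} : Set G) = Subgroup.centralizer ({g} : Set G))
    (hN : ∀ g ∉ Z, Nat.card {y : G // IsConj g y ∧ y ∈ Subgroup.centralizer ({g} : Set G)} ≤ 2) :
    Nat.card Z * (Z.index + 6) ≤ 4 * Nat.card (ConjClasses G) ∨
      (Z.index = 12 ∧ 2 * Nat.card (ConjClasses G) = 7 * Nat.card Z) ∨
      (Z.index = 24 ∧ 2 * Nat.card (ConjClasses G) = 8 * Nat.card Z) ∨
      (Z.index = 60 ∧ 2 * Nat.card (ConjClasses G) = 9 * Nat.card Z ∧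
        ∀ g ∉ Z, Nat.card (Subgroup.centralizer ({g} : Set G)) ≤ 5 * Nat.card Z) := by
  classical
  haveI := Fintype.ofFinite G
  set z := Nat.card Z with hz
  set m := Z.index with hm
  have hzpos : 0 < z := Nat.card_pos
  have hGcard : Nat.card G = m * z := Z.index_mul_card.symm
  have hm2 : 2 ≤ m := by
    have h1 := Subgroup.one_lt_index_of_ne_top hZtop
    omega
  set cen : G → Subgroup G := fun g => Subgroup.centralizer ({g} : Set G) with hcen
  set O : G → Set (Subgroup G) := fun g => MulAction.orbit (ConjAct G) (cen g) with hO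
  set out := Finset.univ.filter (fun g : G => g ∉ Z) with hout
  set Ω := out.image O with hΩ
  choose f hf1 hf2 hfO using fun g (hg : g ∉ Z) => normalizer_facts (hN g hg)
  -- the fibre over one orbit of centralizers
  have hZmem : ∀ (a : ConjAct G) (x : G), x ∈ Z → a • x = x := fun a x hx => by
    rw [ConjAct.smul_def, Subgroup.mem_center_iff.1 (hZ hx), mul_inv_cancel_right]
  have hconj : ∀ (a : ConjAct G) (x : G), x ∉ Z → a • x ∉ Z := fun a x hx h => by
    have h1 := hZmem a⁻¹ _ h
    rw [inv_smul_smul] at h1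
    exact hx (h1 ▸ h)
  have hfib : ∀ r ∉ Z, ∀ e, Nat.card (cen r) = e * z →
      (out.filter (fun g => O g = O r)).card = Nat.card (O r) * ((e - 1) * z) ∧
      ∀ g ∈ out.filter (fun g => O g = O r), Nat.card (cen g) = e * z := by
    intro r hr e he
    have hmemO : ∀ g, g ∈ out.filter (fun g => O g = O r) ↔ g ∉ Z ∧ cen g ∈ O r := by
      intro g
      simp only [hout, Finset.mem_filter, Finset.mem_univ, true_and, hO]
      exact and_congr_right fun _ => MulAction.orbit_eq_iff
    have hcard : ∀ C ∈ O r, Nat.card C = e * z := by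
      rintro _ ⟨a, rfl⟩
      rw [← he]
      exact (Nat.card_congr (Subgroup.equivSMul a (cen r)).toEquiv).symm
    refine ⟨?_, fun g hg => hcard _ ((hmemO g).1 hg).2⟩
    rw [Finset.card_eq_sum_card_fiberwise (f := cen) (t := (O r).toFinset)
      (fun g hg => Finset.mem_coe.2 (Set.mem_toFinset.2 ((hmemO g).1 hg).2))]
    rw [Finset.sum_const_nat (m := (e - 1) * z), Set.toFinset_card, Nat.card_eq_fintype_card]
    intro C hCr
    rw [Set.mem_toFinset] at hCr
    obtain ⟨a, rfl⟩ := hCr
    have hrC : a • r ∈ a • cen r :=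
      Subgroup.smul_mem_pointwise_smul r a _ (Subgroup.mem_centralizer_singleton_iff.2 rfl)
    have heq : (out.filter (fun g => O g = O r)).filter (fun g => cen g = a • cen r) =
        Finset.univ.filter (fun g => g ∈ a • cen r ∧ g ∉ Z) := by
      ext g
      rw [Finset.mem_filter, hmemO, Finset.mem_filter]
      simp only [Finset.mem_univ, true_and]
      constructor
      · rintro ⟨⟨hg, -⟩, hgC⟩
        exact ⟨hgC ▸ Subgroup.mem_centralizer_singleton_iff.2 rfl, hg⟩
      · rintro ⟨hgC, hg⟩
        have h1 : cen g = a • cen r := by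
          rw [hcen]
          simp only
          rw [smul_centralizer] at hgC ⊢
          exact hC _ (hconj a r hr) g hgC hg
        exact ⟨⟨hg, h1 ▸ MulAction.mem_orbit _ a⟩, h1⟩
    rw [heq]
    have hle : Z ≤ a • cen r := fun x hx => by
      rw [← hZmem a x hx]
      exact Subgroup.smul_mem_pointwise_smul x a _ (Subgroup.mem_centralizer_singleton_iff.2
        (Subgroup.mem_center_iff.1 (hZ hx) r).symm)
    have h1 : (Finset.univ.filter (fun g => g ∈ a • cen r ∧ g ∉ Z)) =
        (Finset.univ.filter (· ∈ a • cen r)) \ (Finset.univ.filter (· ∈ Z)) := by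
      ext g; simp
    rw [h1, Finset.card_sdiff_of_subset (fun g hg => by
      simp only [Finset.mem_filter, Finset.mem_univ, true_and] at hg ⊢; exact hle hg)]
    have h2 : ∀ K : Subgroup G, (Finset.univ.filter (· ∈ K)).card = Nat.card K := fun K => by
      rw [Nat.card_eq_fintype_card, Fintype.card_subtype]
    rw [h2, h2, hcard _ ⟨a, rfl⟩, ← hz, Nat.sub_mul, one_mul]
  -- one representative for each orbit
  have hrep : ∀ ω : Ω, ∃ r ∉ Z, O r = ω.1 := fun ω => by
    obtain ⟨r, hr, h⟩ := Finset.mem_image.1 ω.2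
    exact ⟨r, (Finset.mem_filter.1 hr).2, h⟩
  choose rep hrepZ hrepO using hrep
  choose e he2 hecard using fun ω : Ω => centralizer_facts hZ (hrepZ ω)
  set t := Fintype.card Ω
  let ε : Fin t ≃ Ω := (Fintype.equivFin Ω).symm
  let E : Fin t → ℕ := fun i => e (ε i)
  let F : Fin t → ℕ := fun i => f (rep (ε i)) (hrepZ _)
  let D : Fin t → ℕ := fun i => Nat.card (O (rep (ε i)))
  have hDEF : ∀ i, D i * (F i * E i) = m := fun i => by
    have h := hfO (rep (ε i)) (hrepZ _)
    rw [hecard, hGcard] at h
    refine Nat.eq_of_mul_eq_mul_right hzpos ?_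
    rw [← h]
    show D i * (F i * E i) * z = D i * (F i * (E i * z))
    ring
  have hGs : ∀ i, ∃ g, 1 ≤ g ∧ g ≤ 2 ∧ g * F i = 2 := fun i => by
    rcases (show F i = 1 ∨ F i = 2 by
      have := hf1 (rep (ε i)) (hrepZ _); have := hf2 (rep (ε i)) (hrepZ _)
      show f _ _ = 1 ∨ f _ _ = 2
      omega) with h | h
    · exact ⟨2, by norm_num, le_rfl, by rw [h]⟩
    · exact ⟨1, le_rfl, by norm_num, by rw [h]⟩
  choose g hg1 hg2 hgF using hGs
  have hsplit : ∀ (F' : G → ℕ) (c : Fin t → ℕ),
      (∀ i, ∀ x ∈ out.filter (fun x => O x = O (rep (ε i))), F' x = c i) →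
      ∑ x ∈ out, F' x = ∑ i, D i * ((E i - 1) * z) * c i := by
    intro F' c hc
    rw [← Finset.sum_fiberwise_of_maps_to (g := O) (t := Ω)
      (fun x hx => Finset.mem_image_of_mem O hx), ← Finset.sum_attach, Finset.attach_eq_univ,
      ← Equiv.sum_comp ε]
    refine Finset.sum_congr rfl fun i _ => ?_
    have hset : out.filter (fun x => O x = (ε i).1) = out.filter (fun x => O x = O (rep (ε i))) := by
      rw [hrepO]
    rw [hset, Finset.sum_congr rfl (hc i), Finset.sum_const, smul_eq_mul,
      (hfib _ (hrepZ _) _ (hecard _)).1]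
  have hout' : ∑ x ∈ out, 1 = m * z - z := by
    rw [Finset.sum_const, smul_eq_mul, mul_one, hout, Finset.filter_not,
      Finset.card_sdiff_of_subset (Finset.subset_univ _), Finset.card_univ,
      ← Nat.card_eq_fintype_card, hGcard, hz, Nat.card_eq_fintype_card, Fintype.card_subtype]
  have hsum : (∑ i, (E i - 1) * D i) + 1 = m := by
    have h1 := hsplit (fun _ => 1) (fun _ => 1) (fun _ _ _ => rfl)
    rw [hout'] at h1
    have h2 : (∑ i, (E i - 1) * D i) * z = m * z - z := by
      rw [h1, Finset.sum_mul]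
      exact Finset.sum_congr rfl fun i _ => by ring
    have h3 : ((∑ i, (E i - 1) * D i) + 1) * z = m * z := by
      rw [add_mul, h2, one_mul]
      exact Nat.sub_add_cancel (Nat.le_mul_of_pos_left z (by omega))
    exact Nat.eq_of_mul_eq_mul_right hzpos h3
  have hk : 2 * Nat.card (ConjClasses G) = z * (2 + ∑ i, g i * (E i - 1)) := by
    have h0 := TransCoprime.classes_mul_card (G := G)
    rw [hGcard, ← Finset.sum_filter_add_sum_filter_not Finset.univ (fun x : G => x ∉ Z)] at h0
    have h1 := hsplit (fun x => Nat.card (cen x)) (fun i => E i * z)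
      (fun i x hx => (hfib _ (hrepZ _) _ (hecard _)).2 x hx)
    have h2 : ∑ x ∈ Finset.univ.filter (fun x : G => ¬ x ∉ Z),
        Nat.card (Subgroup.centralizer ({x} : Set G)) = z * (m * z) := by
      rw [Finset.sum_congr rfl (fun x hx => ?_), Finset.sum_const, smul_eq_mul]
      · congr 1
        rw [hz, Nat.card_eq_fintype_card, Fintype.card_subtype]
        simp
      · have hxZ : x ∈ Z := not_not.1 (Finset.mem_filter.1 hx).2
        rw [← hGcard, show Subgroup.centralizer ({x} : Set G) = ⊤ from top_le_iff.1 fun y _ =>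
          Subgroup.mem_centralizer_singleton_iff.2 (Subgroup.mem_center_iff.1 (hZ hxZ) y), Subgroup.card_top]
    rw [h2] at h0
    rw [show ∑ x ∈ Finset.univ.filter (fun x : G => x ∉ Z),
      Nat.card (Subgroup.centralizer ({x} : Set G)) = ∑ x ∈ out, Nat.card (cen x) from rfl, h1] at h0
    refine Nat.eq_of_mul_eq_mul_right (show 0 < m * z from Nat.mul_pos (by omega) hzpos) ?_
    have h6 : 2 * (∑ i, D i * ((E i - 1) * z) * (E i * z)) =
        z * (∑ i, g i * (E i - 1)) * (m * z) := by
      rw [Finset.mul_sum, Finset.mul_sum, Finset.sum_mul]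
      refine Finset.sum_congr rfl fun i _ => ?_
      rw [← hDEF i, ← hgF i]
      ring
    rw [mul_assoc 2, h0, mul_add, h6]
    ring
  rcases cases_of_equation hm2 E D g (fun i => he2 _) hg1 hg2 (fun i => by
      rw [← hDEF i, ← hgF i]; ring) hsum with h | h | h | h
  · left
    have h4 : z * (m + 6) ≤ z * (2 * (2 + ∑ i, g i * (E i - 1))) := Nat.mul_le_mul_left z (by omega)
    rw [show z * (2 * (2 + ∑ i, g i * (E i - 1))) = 2 * (z * (2 + ∑ i, g i * (E i - 1))) by ring,
      ← hk] at h4
    omega
  · exact Or.inr (Or.inl ⟨h.1, by rw [hk, h.2]; ring⟩)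
  · exact Or.inr (Or.inr (Or.inl ⟨h.1, by rw [hk, h.2]; ring⟩))
  · refine Or.inr (Or.inr (Or.inr ⟨h.1, by rw [hk, h.2.1]; ring, fun x hx => ?_⟩))
    have hω : O x ∈ Ω := Finset.mem_image_of_mem O (by simp [hout, hx])
    set i := ε.symm ⟨O x, hω⟩
    have h5 : O x = O (rep (ε i)) := by rw [hrepO, Equiv.apply_symm_apply]
    rw [(hfib _ (hrepZ _) _ (hecard (ε i))).2 x (by simp [hout, hx, h5])]
    exact Nat.mul_le_mul_right z (h.2.2 i)

end Cfsg.Agent.Perm.TransCoprimeLower
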