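import Mathlib
import Cfsg.Agent.Lib.Perm.TransCoprime.Plane
import Cfsg.Agent.Lib.Perm.TransCoprimeLower.Partition

/-!
# Coprime transitive groups of the plane have many classes
-/

set_option autoImplicit false
set_option linter.style.haveILetI false
set_option linter.unusedSectionVars false

namespace Cfsg.Agent.Perm.TransCoprimeLower

open TransLinear (Trans)
open TransCoprime (scalars card_scalars_le span_pair_eq_top card_stabilizer_le card_eq_mul_stabilizer)
open NearField (endH endH_apply endH_injective finite_end finite_H)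

variable {p : ℕ} [hp : Fact p.Prime] {V : Type*} [AddCommGroup V] [Module (ZMod p) V] [Finite V]
variable {H : Subgroup (V ≃ₗ[ZMod p] V)}

/-- the scalars as a subgroup -/
def scalarSub (H : Subgroup (V ≃ₗ[ZMod p] V)) : Subgroup H where
  carrier := scalars H
  one_mem' := ⟨1, fun v => by rw [one_smul]; rfl⟩
  mul_mem' := by
    rintro a b ⟨c, hc⟩ ⟨d, hd⟩
    refine ⟨c * d, fun v => ?_⟩
    rw [Subgroup.coe_mul, LinearEquiv.mul_apply, hd, map_smul, hc, smul_smul, mul_comm]
  inv_mem' := by
    rintro a ⟨c, hc⟩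
    refine ⟨c⁻¹, fun v => ?_⟩
    rw [Subgroup.coe_inv]
    apply (a : V ≃ₗ[ZMod p] V).injective
    show (a : V ≃ₗ[ZMod p] V) ((a : V ≃ₗ[ZMod p] V).symm v) = _
    rw [LinearEquiv.apply_symm_apply, map_smul, hc, smul_smul]
    by_cases hc0 : c = 0
    · have h1 := hc v
      rw [hc0, zero_smul] at h1
      rw [((a : V ≃ₗ[ZMod p] V).map_eq_zero_iff).1 h1, smul_zero]
    · rw [inv_mul_cancel₀ hc0, one_smul]

theorem mem_scalarSub_iff {x : H} : x ∈ scalarSub H ↔ ∃ c : ZMod p, endH H x = c • 1 :=
  ⟨fun ⟨c, hc⟩ => ⟨c, LinearMap.ext fun v => by rw [endH_apply, hc]; rfl⟩,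
    fun ⟨c, hc⟩ => ⟨c, fun v => by rw [← endH_apply, hc]; rfl⟩⟩

theorem scalarSub_le_center : scalarSub H ≤ Subgroup.center H := by
  intro x hx
  obtain ⟨c, hc⟩ := mem_scalarSub_iff.1 hx
  rw [Subgroup.mem_center_iff]
  intro g
  apply endH_injective
  rw [map_mul, map_mul, hc, smul_mul_assoc, mul_smul_comm, one_mul, mul_one]

variable (hn : Module.finrank (ZMod p) V = 2)

include hn in
/-- what commutes with a non-scalar is a combination of it and the identity -/
theorem exists_combination {g : H} (hg : g ∉ scalarSub H) {w : H} (hw : w * g = g * w) :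
    ∃ a b : ZMod p, endH H w = a • 1 + b • endH H g := by
  obtain ⟨v, hv, hgv⟩ : ∃ v : V, v ≠ 0 ∧ endH H g v ∉ Submodule.span (ZMod p) {v} := by
    by_contra! hall
    apply hg
    have hex : ∀ v : V, ∃ c : ZMod p, endH H g v = c • v := fun v => by
      by_cases hv : v = 0
      · exact ⟨0, by rw [hv, map_zero, smul_zero]⟩
      obtain ⟨c, hc⟩ := Submodule.mem_span_singleton.1 (hall v hv)
      exact ⟨c, hc.symm⟩
    haveI : Nontrivial V := Module.nontrivial_of_finrank_pos (R := ZMod p) (by omega)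
    obtain ⟨v, hv⟩ := exists_ne (0 : V)
    obtain ⟨c, hc⟩ := hex v
    refine mem_scalarSub_iff.2 ⟨c, LinearMap.ext fun u => ?_⟩
    rw [LinearMap.smul_apply, Module.End.one_apply]
    by_cases hu : u ∈ Submodule.span (ZMod p) {v}
    · obtain ⟨t, rfl⟩ := Submodule.mem_span_singleton.1 hu
      rw [map_smul, hc, smul_comm]
    obtain ⟨d, hd⟩ := hex u
    obtain ⟨e, he⟩ := hex (u + v)
    rw [map_add, hd, hc, smul_add] at he
    have h0 : (d - e) • u + (c - e) • v = 0 := by
      rw [sub_smul, sub_smul, ← sub_eq_zero.2 he]; abel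
    have hde : d = e := by
      by_contra hne
      apply hu
      rw [Submodule.mem_span_singleton]
      refine ⟨(d - e)⁻¹ * -(c - e), ?_⟩
      rw [mul_smul, eq_comm, eq_inv_smul_iff₀ (sub_ne_zero.2 hne), neg_smul]
      exact eq_neg_of_add_eq_zero_left h0
    have hce : c = e := by
      rw [hde, sub_self, zero_smul, zero_add, smul_eq_zero, sub_eq_zero] at h0
      exact h0.resolve_right hv
    rw [hd, hde, hce]
  have htop := span_pair_eq_top hn hv hgv
  obtain ⟨a, b, hab⟩ := Submodule.mem_span_pair.1 (htop ▸ Submodule.mem_top : endH H w v ∈ _)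
  refine ⟨a, b, LinearMap.ext_on htop ?_⟩
  intro x hx
  simp only [Set.mem_insert_iff, Set.mem_singleton_iff] at hx
  rcases hx with rfl | rfl
  · simp only [LinearMap.add_apply, LinearMap.smul_apply, Module.End.one_apply]
    exact hab.symm
  · simp only [LinearMap.add_apply, LinearMap.smul_apply, Module.End.one_apply]
    rw [← Module.End.mul_apply, ← map_mul, hw, map_mul, Module.End.mul_apply, ← hab, map_add,
      map_smul, map_smul]

/-- the identity and a non-scalar are independent -/
theorem combination_eq_zero {g : H} (hg : g ∉ scalarSub H) [Nontrivial V] {a b : ZMod p}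
    (h : a • (1 : Module.End (ZMod p) V) + b • endH H g = 0) : a = 0 ∧ b = 0 := by
  have hb : b = 0 := by
    by_contra hb
    apply hg
    refine mem_scalarSub_iff.2 ⟨b⁻¹ * -a, ?_⟩
    rw [mul_smul, neg_smul, eq_inv_smul_iff₀ hb]
    exact eq_neg_of_add_eq_zero_right h
  refine ⟨?_, hb⟩
  rw [hb, zero_smul, add_zero] at h
  obtain ⟨v, hv⟩ := exists_ne (0 : V)
  have h1 := LinearMap.congr_fun h v
  rw [LinearMap.smul_apply, Module.End.one_apply, LinearMap.zero_apply] at h1
  exact (smul_eq_zero.1 h1).resolve_right hv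

include hn in
theorem centralizer_eq {g : H} (hg : g ∉ scalarSub H) {y : H}
    (hy : y ∈ Subgroup.centralizer ({g} : Set H)) (hys : y ∉ scalarSub H) :
    Subgroup.centralizer ({y} : Set H) = Subgroup.centralizer ({g} : Set H) := by
  have key : ∀ g y : H, g ∉ scalarSub H → y * g = g * y →
      ∀ w, w * g = g * w → w * y = y * w := by
    intro g y hg hy w hw
    obtain ⟨a, b, hab⟩ := exists_combination hn hg hy
    apply endH_injective
    rw [map_mul, map_mul, hab, mul_add, add_mul, smul_mul_assoc, smul_mul_assoc, mul_smul_comm,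
      mul_smul_comm, ← map_mul, hw, map_mul, one_mul, mul_one]
  rw [Subgroup.mem_centralizer_singleton_iff] at hy
  ext w
  rw [Subgroup.mem_centralizer_singleton_iff, Subgroup.mem_centralizer_singleton_iff]
  exact ⟨key y g hys hy.symm w, key g y hg hy w⟩

variable (hcop : ¬ p ∣ Nat.card H)

include hn hcop in
/-- an element has at most two conjugates in its centralizer -/
theorem card_conj_le [Nontrivial V] (hp2 : p ≠ 2) {g : H} (hg : g ∉ scalarSub H) :
    Nat.card {y : H // IsConj g y ∧ y ∈ Subgroup.centralizer ({g} : Set H)} ≤ 2 := by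
  classical
  haveI := finite_H (H := H)
  haveI hC : CharP (Module.End (ZMod p) V) p :=
    charP_of_injective_algebraMap (FaithfulSMul.algebraMap_injective (ZMod p) (Module.End (ZMod p) V)) p
  have h2 : (2 : ZMod p) ≠ 0 := by
    intro h
    have h' : ((2 : ℕ) : ZMod p) = 0 := by exact_mod_cast h
    rw [ZMod.natCast_eq_zero_iff] at h'
    exact hp2 ((Nat.prime_dvd_prime_iff_eq hp.out Nat.prime_two).1 h')
  obtain ⟨α, β, hsq⟩ := exists_combination hn hg (show g * g * g = g * (g * g) by rw [mul_assoc])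
  rw [map_mul] at hsq
  set T := endH H g
  have hdisc : β ^ 2 + 4 * α ≠ 0 := by
    intro h0
    apply hg
    set N := (2 : ZMod p) • T - β • (1 : Module.End (ZMod p) V) with hN
    have hN2 : N * N = 0 := by
      have h1 : N * N = (4 : ZMod p) • (T * T) - (4 * β) • T + (β ^ 2) • 1 := by
        rw [hN]
        simp only [mul_sub, sub_mul, smul_mul_assoc, mul_smul_comm, one_mul, mul_one]
        module
      rw [h1, hsq]
      calc (4 : ZMod p) • (α • (1 : Module.End (ZMod p) V) + β • T) - (4 * β) • T + β ^ 2 • 1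
          = (β ^ 2 + 4 * α) • (1 : Module.End (ZMod p) V) := by module
        _ = 0 := by rw [h0, zero_smul]
    have hNp : N ^ p = 0 := by
      exact pow_eq_zero_of_le hp.out.two_le (by rw [sq, hN2])
    have hTp : T ^ p = ((2 : ZMod p)⁻¹ * β) • 1 := by
      have h1 : (2 : ZMod p) • T = N + β • 1 := by rw [hN, sub_add_cancel]
      have h3 := congrArg (fun x => x ^ p) h1
      simp only [smul_pow, add_pow_char_of_commute p ((Commute.one_right N).smul_right β), hNp,
        zero_add, one_pow, ZMod.pow_card] at h3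
      rw [mul_smul, ← h3, smul_smul, inv_mul_cancel₀ h2, one_smul]
    have hgp : g ^ p ∈ scalarSub H := mem_scalarSub_iff.2 ⟨_, by rw [map_pow]; exact hTp⟩
    have hord : g ^ (p * (p - 1)) = 1 := by
      apply endH_injective
      obtain ⟨c, hc⟩ := mem_scalarSub_iff.1 hgp
      rw [pow_mul, map_pow, hc, smul_pow, one_pow, map_one]
      have hc0 : c ≠ 0 := fun e => by
        obtain ⟨v, hv⟩ := exists_ne (0 : V)
        apply hv
        have h1 := LinearMap.congr_fun hc v
        rw [e, zero_smul, LinearMap.zero_apply, endH_apply] at h1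
        exact ((g ^ p : H) : V ≃ₗ[ZMod p] V).map_eq_zero_iff.1 h1
      rw [ZMod.pow_card_sub_one_eq_one hc0, one_smul]
    have hdvd : orderOf g ∣ p - 1 :=
      Nat.Coprime.dvd_of_dvd_mul_left
        ((hp.out.coprime_iff_not_dvd.2 fun h => hcop (h.trans (orderOf_dvd_natCard g))).symm)
        (orderOf_dvd_of_pow_eq_one hord)
    have hgg : g ^ p = g := by
      calc g ^ p = g ^ (p - 1 + 1) := congrArg (g ^ ·) (Nat.sub_add_cancel hp.out.one_le).symm
        _ = g := by rw [pow_succ, orderOf_dvd_iff_pow_eq_one.1 hdvd, one_mul]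
    exact hgg ▸ hgp
  have hform : ∀ y : H, IsConj g y → y ∈ Subgroup.centralizer ({g} : Set H) →
      endH H y = T ∨ endH H y = β • 1 - T := by
    intro y hy hyC
    obtain ⟨h, hh⟩ := isConj_iff.1 hy
    obtain ⟨a, b, hab⟩ := exists_combination hn hg (Subgroup.mem_centralizer_singleton_iff.1 hyC)
    have hys : y ∉ scalarSub H := fun hys => by
      apply hg
      have h1 := Subgroup.mem_center_iff.1 (scalarSub_le_center hys) h
      have h2 : h * g = y * h := mul_inv_eq_iff_eq_mul.1 hh
      rw [← h1] at h2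
      rw [mul_left_cancel h2]
      exact hys
    have hysq : endH H y * endH H y = α • 1 + β • endH H y := by
      rw [← hh, ← map_mul, show h * g * h⁻¹ * (h * g * h⁻¹) = h * (g * g) * h⁻¹ by group]
      simp only [map_mul]
      rw [hsq]
      simp only [mul_add, add_mul, mul_smul_comm, smul_mul_assoc, mul_one]
      rw [← map_mul (endH H) h h⁻¹, mul_inv_cancel, map_one]
    rw [hab] at hysq ⊢
    have hb : b ≠ 0 := fun hb => hys (mem_scalarSub_iff.2 ⟨a, by rw [hab, hb, zero_smul, add_zero]⟩)
    obtain ⟨e0, e1⟩ := combination_eq_zero hg (a := a ^ 2 + b ^ 2 * α - α - β * a)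
      (b := b * (2 * a + b * β - β)) (by
        have e : (a • 1 + b • T) * (a • 1 + b • T) =
            (a ^ 2) • (1 : Module.End (ZMod p) V) + (2 * a * b) • T + (b ^ 2) • (T * T) := by
          simp only [mul_add, add_mul, smul_mul_assoc, mul_smul_comm, one_mul, mul_one]
          module
        rw [e, hsq, ← sub_eq_zero] at hysq
        rw [← hysq]
        module)
    have e2 : 2 * a + b * β - β = 0 := (mul_eq_zero.1 e1).resolve_left hb
    have e3 : (b ^ 2 - 1) * (β ^ 2 + 4 * α) = 0 := by
      linear_combination 4 * e0 + (-2 * a + b * β + β) * e2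
    rcases mul_eq_zero.1 ((sq b ▸ (by ring : (b * b - 1) = (b - 1) * (b + 1))) ▸
      (mul_eq_zero.1 e3).resolve_right hdisc : (b - 1) * (b + 1) = 0) with hb1 | hb1
    · left
      have hb' : b = 1 := sub_eq_zero.1 hb1
      subst hb'
      have ha : a = 0 := (mul_eq_zero.1 (by linear_combination e2 : 2 * a = 0)).resolve_left h2
      rw [ha, zero_smul, one_smul, zero_add]
    · right
      have hb' : b = -1 := eq_neg_of_add_eq_zero_left hb1
      subst hb'
      have ha : a = β := sub_eq_zero.1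
        ((mul_eq_zero.1 (by linear_combination e2 : 2 * (a - β) = 0)).resolve_left h2)
      rw [ha, neg_one_smul, ← sub_eq_add_neg]
  refine (Nat.card_le_card_of_injective
    (fun y : {y : H // IsConj g y ∧ y ∈ Subgroup.centralizer ({g} : Set H)} =>
      decide (endH H (y : H) = T)) ?_).trans (le_of_eq (by rw [Nat.card_eq_fintype_card]; rfl))
  intro x y e
  simp only [decide_eq_decide] at e
  refine Subtype.ext (endH_injective ?_)
  rcases hform x x.2.1 x.2.2 with h | h <;> rcases hform y y.2.1 y.2.2 with h' | h'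
  · rw [h, h']
  · rw [h, (e.1 h)]
  · rw [h', e.2 h']
  · rw [h, h']

/-- the arithmetic of the plane -/
theorem plane_arith {p k z m h : ℕ} (hp : p.Prime) (hp2 : p ≠ 2) (hz : z ≤ p - 1) (hz0 : 1 ≤ z) (hh : 1 ≤ h)
    (hh' : h ≤ p - 1) (hcard : m * z = (p * p - 1) * h) (hpm : ¬ p ∣ m) (heven : h = 1 → 2 ∣ z)
    (hcases : z * (m + 6) ≤ 4 * k ∨ (m = 12 ∧ 2 * k = 7 * z) ∨ (m = 24 ∧ 2 * k = 8 * z) ∨
      (m = 60 ∧ 2 * k = 9 * z)) :
    p ≤ k ∨ (p = 11 ∧ k = 9 ∧ h = 1 ∧ z = 2 ∧ m = 60) := by
  have h3 : 3 ≤ p := by have := hp.two_le; omega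
  have h4 : p ≠ 4 := by rintro rfl; norm_num at hp
  have hle : p * p - 1 ≤ (p * p - 1) * h := Nat.le_mul_of_pos_right _ hh
  by_cases hbig : 17 ≤ p
  · left
    have h17 : 17 * p ≤ p * p := Nat.mul_le_mul_right p hbig
    rcases hcases with hc | ⟨rfl, hc⟩ | ⟨rfl, hc⟩ | ⟨rfl, hc⟩
    · rw [mul_add, mul_comm z m] at hc; omega
    all_goals omega
  · rcases hcases with hc | ⟨rfl, hc⟩ | ⟨rfl, hc⟩ | ⟨rfl, hc⟩
    · left
      rw [mul_add, mul_comm z m] at hc
      by_cases h5 : 5 ≤ p
      · have : 5 * p ≤ p * p := Nat.mul_le_mul_right p h5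
        omega
      · obtain rfl : p = 3 := by omega
        omega
    all_goals
      interval_cases p <;> (try omega) <;> (try norm_num at hp) <;> (try norm_num at hpm) <;> omega

include hn hcop in
/-- the plane -/
theorem plane_lower [Nontrivial V] (hT : Trans H) {v : V} (hv : v ≠ 0) :
    p ≤ Nat.card (ConjClasses H) ∨
      (p = 11 ∧ Nat.card (ConjClasses H) = 9 ∧ Nat.card H = 120 ∧
        ∀ x : H, orderOf x ≠ 15) := by
  classical
  haveI := finite_H (H := H)
  have hV : Nat.card V = p * p := by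
    rw [Module.natCard_eq_pow_finrank (K := ZMod p) (V := V), hn, Nat.card_zmod, pow_two]
  have hh' := card_stabilizer_le hcop hn hv
  have hH := card_eq_mul_stabilizer hT hv
  rw [hV] at hH
  set h := Nat.card (MulAction.stabilizer H v)
  have hh : 1 ≤ h := Nat.card_pos
  have hp4 : 4 ≤ p * p := Nat.mul_le_mul hp.out.two_le hp.out.two_le
  by_cases hp2 : p = 2
  · left
    subst hp2
    haveI : Nontrivial H := Finite.one_lt_card_iff_nontrivial.1 (by rw [hH]; omega)
    obtain ⟨x, hx⟩ := exists_ne (1 : H)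
    haveI : Nontrivial (ConjClasses H) := ⟨⟨ConjClasses.mk x, ConjClasses.mk 1, fun e =>
      hx (isConj_one_left.1 (ConjClasses.mk_eq_mk_iff_isConj.1 e))⟩⟩
    exact Finite.one_lt_card
  set Z := scalarSub H
  have hz : Nat.card Z ≤ p - 1 := card_scalars_le (H := H)
  have hm := Z.index_mul_card
  rw [hH] at hm
  have hle : p * p - 1 ≤ (p * p - 1) * h := Nat.le_mul_of_pos_right _ hh
  have h2p : 2 * p ≤ p * p := Nat.mul_le_mul_right p hp.out.two_le
  have hZtop : Z ≠ ⊤ := fun e => by
    rw [e, Subgroup.index_top, one_mul] at hm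
    rw [e] at hz
    omega
  have heven : h = 1 → 2 ∣ Nat.card Z := by
    intro h1
    haveI : Fact (Nat.Prime 2) := ⟨Nat.prime_two⟩
    obtain ⟨t, ht⟩ := hp.out.odd_of_ne_two hp2
    have h2H : 2 ∣ Nat.card H := by
      rw [hH, h1, mul_one, ht, show (2 * t + 1) * (2 * t + 1) = 2 * (2 * t * t + 2 * t) + 1 by ring,
        Nat.add_sub_cancel]
      exact dvd_mul_right 2 _
    obtain ⟨x, hx⟩ := exists_prime_orderOf_dvd_card' (G := H) 2 h2H
    have hx2 : x * x = 1 := by rw [← sq, ← hx, pow_orderOf_eq_one]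
    have hxZ : x ∈ Z := by
      refine ⟨-1, fun w => ?_⟩
      rw [neg_one_smul]
      by_contra hne
      set u := w + (x : V ≃ₗ[ZMod p] V) w with hu
      have hu0 : u ≠ 0 := fun e => hne (eq_neg_of_add_eq_zero_right e)
      have hfix : (x : V ≃ₗ[ZMod p] V) u = u := by
        rw [hu, map_add, ← LinearEquiv.mul_apply, ← Subgroup.coe_mul, hx2, add_comm]
        rfl
      have hcard := card_eq_mul_stabilizer hT hu0
      rw [hV, hH, h1] at hcard
      have hs : Nat.card (MulAction.stabilizer H u) = 1 :=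
        (Nat.eq_of_mul_eq_mul_left (by omega) hcard).symm
      have hmem : x ∈ MulAction.stabilizer H u := hfix
      rw [Subgroup.card_eq_one.1 hs, Subgroup.mem_bot] at hmem
      rw [hmem, orderOf_one] at hx
      omega
    exact hx ▸ Subgroup.orderOf_dvd_natCard Z hxZ
  have hpm : ¬ p ∣ Z.index := fun hd => hcop (hd.trans Z.index_dvd_card)
  have hcases := classes_cases Z scalarSub_le_center hZtop (fun g hg y hy hys => centralizer_eq hn hg hy hys)
    (fun g hg => card_conj_le hn hcop hp2 hg)
  have hcases' : Nat.card Z * (Z.index + 6) ≤ 4 * Nat.card (ConjClasses H) ∨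
      (Z.index = 12 ∧ 2 * Nat.card (ConjClasses H) = 7 * Nat.card Z) ∨
      (Z.index = 24 ∧ 2 * Nat.card (ConjClasses H) = 8 * Nat.card Z) ∨
      (Z.index = 60 ∧ 2 * Nat.card (ConjClasses H) = 9 * Nat.card Z) := by
    rcases hcases with c | c | c | c
    · exact Or.inl c
    · exact Or.inr (Or.inl c)
    · exact Or.inr (Or.inr (Or.inl c))
    · exact Or.inr (Or.inr (Or.inr ⟨c.1, c.2.1⟩))
  rcases plane_arith hp.out hp2 hz Nat.card_pos hh hh' hm hpm heven hcases' with hk | ⟨hp11, hk, h1, hz2, hm60⟩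
  · exact Or.inl hk
  rcases hcases with c | c | c | ⟨-, -, hc5⟩
  · rw [hz2, hm60, hk] at c; omega
  · omega
  · omega
  refine Or.inr ⟨hp11, hk, by rw [hH, h1, hp11], fun x hx => ?_⟩
  have hxZ : x ∉ Z := fun hmem => by
    have h15 := Subgroup.orderOf_dvd_natCard Z hmem
    rw [hx, hz2] at h15
    norm_num at h15
  have h5 := hc5 x hxZ
  have h6 := Nat.le_of_dvd Nat.card_pos (Subgroup.orderOf_dvd_natCard (Subgroup.centralizer ({x} : Set H))
    (Subgroup.mem_centralizer_singleton_iff.2 rfl))
  rw [hx] at h6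
  rw [hz2] at h5
  omega

end Cfsg.Agent.Perm.TransCoprimeLower
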