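import Mathlib
import Cfsg.Agent.Lib.Perm.TransCoprime.Main
import Cfsg.Agent.Lib.Perm.TransCoprimeLower.Plane

/-!
# Coprime transitive linear groups have at least as many classes as the characteristic
-/

set_option autoImplicit false
set_option linter.style.haveILetI false
set_option linter.unusedSectionVars false

namespace Cfsg.Agent.Perm.TransCoprimeLower

open TransLinear (Trans)
open NearField (finite_H)

theorem sq_mul_lt_pow {p : ℕ} (hp : 3 ≤ p) : ∀ n, 3 ≤ n → (p - 1) * n ^ 2 + 1 < p ^ n := by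
  intro n hn
  induction n, hn using Nat.le_induction with
  | base =>
    have h9 : 9 ≤ p * p := Nat.mul_le_mul hp hp
    have : 9 * p ≤ p * p * p := Nat.mul_le_mul_right p h9
    rw [show p ^ 3 = p * p * p by ring]
    omega
  | succ n hn ih =>
    have h1 : (n + 1) ^ 2 ≤ 3 * n ^ 2 := by nlinarith
    have h2 : (p - 1) * (n + 1) ^ 2 ≤ (p - 1) * (3 * n ^ 2) := Nat.mul_le_mul_left _ h1
    have h3 : 3 * p ^ n ≤ p ^ (n + 1) := by
      rw [pow_succ']
      exact Nat.mul_le_mul_right _ hp
    rw [show (p - 1) * (3 * n ^ 2) = 3 * ((p - 1) * n ^ 2) by ring] at h2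
    omega

theorem two_le_classes {G : Type*} [Group G] [Finite G] [Nontrivial G] :
    2 ≤ Nat.card (ConjClasses G) := by
  obtain ⟨x, hx⟩ := exists_ne (1 : G)
  haveI : Nontrivial (ConjClasses G) := ⟨⟨ConjClasses.mk x, ConjClasses.mk 1, fun e =>
    hx (isConj_one_left.1 (ConjClasses.mk_eq_mk_iff_isConj.1 e))⟩⟩
  exact Finite.one_lt_card

theorem three_le_classes {G : Type*} [Group G] [Finite G] (h2 : 2 ∣ Nat.card G) (h5 : 5 ∣ Nat.card G) :
    3 ≤ Nat.card (ConjClasses G) := by
  haveI : Fact (Nat.Prime 2) := ⟨Nat.prime_two⟩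
  haveI : Fact (Nat.Prime 5) := ⟨by norm_num⟩
  obtain ⟨a, ha⟩ := exists_prime_orderOf_dvd_card' (G := G) 2 h2
  obtain ⟨b, hb⟩ := exists_prime_orderOf_dvd_card' (G := G) 5 h5
  have hne : ∀ x y : G, orderOf x ≠ orderOf y → ConjClasses.mk x ≠ ConjClasses.mk y := fun x y h e => by
    obtain ⟨c, hc⟩ := isConj_iff.1 (ConjClasses.mk_eq_mk_iff_isConj.1 e)
    exact h (by rw [← hc, ← MulAut.conj_apply, MulEquiv.orderOf_eq])
  let f : Fin 3 → ConjClasses G := ![ConjClasses.mk 1, ConjClasses.mk a, ConjClasses.mk b]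
  refine (le_of_eq (Nat.card_fin 3).symm).trans (Nat.card_le_card_of_injective f fun i j e => ?_)
  have h1 := hne 1 a (by rw [orderOf_one, ha]; norm_num)
  have h2 := hne 1 b (by rw [orderOf_one, hb]; norm_num)
  have h3 := hne a b (by rw [ha, hb]; norm_num)
  fin_cases i <;> fin_cases j <;> simp [f] at e ⊢ <;>
    first
    | exact h1 e | exact h1 e.symm | exact h2 e | exact h2 e.symm | exact h3 e | exact h3 e.symm

variable {p : ℕ} [hp : Fact p.Prime] {V : Type*} [AddCommGroup V] [Module (ZMod p) V] [Finite V]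
variable {H : Subgroup (V ≃ₗ[ZMod p] V)}

/-- the semilinear groups -/
theorem semilinear_lower [Nontrivial V] {n : ℕ}
    (hn : Module.finrank (ZMod p) V = n) (hn3 : 3 ≤ n) (hp3 : 3 ≤ p) (hT : Trans H)
    (hsl : ∃ (F : Type) (_ : Field F) (_ : Fintype F) (e : V ≃+ F),
      ∀ h : H, ∃ (a : F) (σ : F ≃+* F), ∀ v : V, e ((h : V ≃ₗ[ZMod p] V) v) = a * σ (e v)) :
    p ≤ Nat.card (ConjClasses H) := by
  classical
  haveI := finite_H (H := H)
  haveI := Fintype.ofFinite H
  obtain ⟨F, iF, iF', e, hsl⟩ := hsl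
  choose a σ hslf using hsl
  have hV : Nat.card V = p ^ n := by
    rw [Module.natCard_eq_pow_finrank (K := ZMod p) (V := V), hn, Nat.card_zmod]
  have hq : Nat.card F = p ^ n := by rw [← Nat.card_congr e.toEquiv, hV]
  haveI hchar : CharP F p := by
    refine (CharP.charP_iff_prime_eq_zero hp.out).2 ?_
    have h1 : (p : F) = p • (1 : F) := by rw [nsmul_eq_mul, mul_one]
    rw [h1, ← e.apply_symm_apply 1, ← map_nsmul e, ← Nat.cast_smul_eq_nsmul (ZMod p),
      ZMod.natCast_self, zero_smul, map_zero]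
  letI : Algebra (ZMod p) F := ZMod.algebra F p
  haveI : Module.Finite (ZMod p) F := Module.Finite.of_finite
  have hform : ∀ (g : H) (x : F), e ((g : V ≃ₗ[ZMod p] V) (e.symm x)) = a g * σ g x := fun g x => by
    rw [hslf, e.apply_symm_apply]
  have ha : ∀ g : H, a g ≠ 0 := fun g h0 => by
    have h := hform g 1
    rw [h0, zero_mul, ← map_zero e] at h
    have h1 := ((g : V ≃ₗ[ZMod p] V).map_eq_zero_iff).1 (e.injective h)
    exact one_ne_zero (e.symm.injective (h1.trans (map_zero e.symm).symm))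
  have huniq : ∀ (g : H) (b : F) (τ : F ≃+* F),
      (∀ x, e ((g : V ≃ₗ[ZMod p] V) (e.symm x)) = b * τ x) → a g = b ∧ σ g = τ := by
    intro g b τ h
    have h1 : a g = b := by
      have h2 := (hform g 1).symm.trans (h 1)
      rwa [map_one, map_one, mul_one, mul_one] at h2
    refine ⟨h1, RingEquiv.ext fun x => mul_left_cancel₀ (ha g) ?_⟩
    rw [← hform g x, h x, h1]
  have hmul : ∀ g h : H, a (g * h) = a g * σ g (a h) ∧ σ (g * h) = (σ h).trans (σ g) := by
    intro g h
    refine huniq _ _ _ fun x => ?_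
    rw [Subgroup.coe_mul, LinearEquiv.mul_apply, hslf g, hform h, map_mul, mul_assoc]
    rfl
  let toAlg : (F ≃+* F) → (F ≃ₐ[ZMod p] F) := fun τ => AlgEquiv.ofRingEquiv (f := τ) fun r =>
    DFunLike.congr_fun (RingHom.ext_zmod (τ.toRingHom.comp (algebraMap (ZMod p) F))
      (algebraMap (ZMod p) F)) r
  let ψ : H →* (F ≃ₐ[ZMod p] F) := MonoidHom.mk' (fun g => toAlg (σ g)) fun g h => by
    refine AlgEquiv.ext fun x => ?_
    show σ (g * h) x = σ g (σ h x)
    rw [(hmul g h).2]
    rfl
  set A := ψ.ker with hA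
  have hσA : ∀ g ∈ A, ∀ x, σ g x = x := fun g hg x =>
    AlgEquiv.congr_fun (MonoidHom.mem_ker.1 hg) x
  have hcomm : ∀ g ∈ A, ∀ h ∈ A, g * h = h * g := by
    intro g hg h hh
    refine Subtype.ext (LinearEquiv.ext fun w => e.injective ?_)
    rw [Subgroup.coe_mul, Subgroup.coe_mul, LinearEquiv.mul_apply, LinearEquiv.mul_apply, hslf, hslf,
      hσA g hg, hσA h hh, hslf, hslf, hσA g hg, hσA h hh, mul_left_comm]
  have hidx : A.index ≤ n := by
    rw [hA, Subgroup.index_ker]
    refine (Subgroup.card_le_card_group _).trans (le_of_eq ?_)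
    have hfr : Module.finrank (ZMod p) F = n := by
      have h := Module.natCard_eq_pow_finrank (K := ZMod p) (V := F)
      rw [hq, Nat.card_zmod] at h
      exact (Nat.pow_right_injective hp.out.two_le h).symm
    rw [IsGalois.card_aut_eq_finrank, hfr]
  set k := Nat.card (ConjClasses H)
  have hAk : Nat.card A ≤ k * A.index := by
    refine Nat.le_of_mul_le_mul_right (a := Nat.card A) ?_ (Nat.card_pos (α := A))
    rw [mul_assoc, A.index_mul_card, TransCoprime.classes_mul_card]
    calc Nat.card A * Nat.card A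
        = ∑ _x ∈ Finset.univ.filter (· ∈ A), Nat.card A := by
          rw [Finset.sum_const, smul_eq_mul]
          congr 1
          rw [Nat.card_eq_fintype_card, Fintype.card_subtype]
      _ ≤ ∑ x ∈ Finset.univ.filter (· ∈ A), Nat.card (Subgroup.centralizer ({x} : Set H)) :=
          Finset.sum_le_sum fun x hx => Subgroup.card_le_of_le fun y hy =>
            Subgroup.mem_centralizer_singleton_iff.2 (hcomm y hy x (Finset.mem_filter.1 hx).2)
      _ ≤ _ := Finset.sum_le_univ_sum_of_nonneg fun _ => Nat.zero_le _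
  have hH : p ^ n - 1 ≤ Nat.card H := by
    have h := Nat.le_of_dvd Nat.card_pos (TransLinear.card_dvd_of_trans hT)
    rwa [hV] at h
  rw [← A.index_mul_card] at hH
  have h1 : A.index * Nat.card A ≤ k * n ^ 2 := by
    calc A.index * Nat.card A ≤ A.index * (k * A.index) := Nat.mul_le_mul_left _ hAk
      _ = k * A.index ^ 2 := by ring
      _ ≤ k * n ^ 2 := Nat.mul_le_mul_left _ (Nat.pow_le_pow_left hidx 2)
  by_contra hlt
  have h2 : k * n ^ 2 ≤ (p - 1) * n ^ 2 := Nat.mul_le_mul_right _ (by omega)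
  have := sq_mul_lt_pow hp3 n hn3
  omega

/-- the lower bound -/
theorem classes_lower [Nontrivial V] (hcop : ¬ p ∣ Nat.card H) (hT : Trans H) {v : V} (hv : v ≠ 0) :
    p ≤ Nat.card (ConjClasses H) ∨
      (Nat.card V = p ∧ Nat.card (ConjClasses H) = p - 1 ∧ Nat.card H = p - 1) ∨
      (p = 11 ∧ Nat.card V = 121 ∧ Nat.card (ConjClasses H) = 9 ∧ Nat.card H = 120 ∧
        ∀ x : H, orderOf x ≠ 15) := by
  classical
  haveI := finite_H (H := H)
  have hV := Module.natCard_eq_pow_finrank (K := ZMod p) (V := V)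
  rw [Nat.card_zmod] at hV
  have hdvd := TransLinear.card_dvd_of_trans hT
  rcases (show Module.finrank (ZMod p) V = 1 ∨ Module.finrank (ZMod p) V = 2 ∨
      3 ≤ Module.finrank (ZMod p) V by
    have := Module.finrank_pos (R := ZMod p) (M := V); omega) with h1 | h2 | h3
  · obtain ⟨hb, hc⟩ := TransCoprime.bound_line (H := H) h1 hv
    rw [h1, pow_one] at hV
    haveI := hc
    have hk : Nat.card (ConjClasses H) = Nat.card H := by
      letI : CommGroup H := IsCyclic.commGroup
      exact (Nat.card_congr (Equiv.ofBijective ConjClasses.mk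
        ⟨ConjClasses.mk_injective, ConjClasses.mk_surjective⟩)).symm
    rw [hV] at hdvd hb
    have hle := Nat.le_of_dvd Nat.card_pos hdvd
    have : 1 ≤ Nat.card (ConjClasses (MulAction.stabilizer H v)) := by
      haveI : Nonempty (ConjClasses (MulAction.stabilizer H v)) := ⟨ConjClasses.mk 1⟩
      exact Nat.card_pos
    exact Or.inr (Or.inl ⟨hV, by omega, by omega⟩)
  · rcases plane_lower h2 hcop hT hv with h | ⟨h11, hk, hH, h15⟩
    · exact Or.inl h
    · exact Or.inr (Or.inr ⟨h11, by rw [hV, h2, h11]; norm_num, hk, hH, h15⟩)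
  · left
    have hpn : p ^ 3 ≤ Nat.card V := hV ▸ Nat.pow_le_pow_right hp.out.pos h3
    rcases Nat.lt_or_ge p 3 with hp2 | hp3
    · haveI : Nontrivial H := Finite.one_lt_card_iff_nontrivial.1 (by
        have h8 : 2 ^ 3 ≤ p ^ 3 := Nat.pow_le_pow_left hp.out.two_le 3
        have := Nat.le_of_dvd Nat.card_pos hdvd
        omega)
      have := two_le_classes (G := H)
      omega
    have hsolv := TransCoprime.solvable_of_trans hcop rfl h3 hT
    rcases TransLinear.semilinear_or_small hT hsolv with h | hsmall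
    · exact semilinear_lower rfl h3 hp3 hT h
    · have hp' : p ^ 3 ≤ 529 ∧ p ∣ Nat.card V :=
        ⟨hpn.trans (by
          simp only [Set.mem_insert_iff, Set.mem_singleton_iff] at hsmall
          omega), hV ▸ dvd_pow_self p (by omega)⟩
      have hp9 : p < 9 := by
        by_contra hlt
        have h729 : 9 ^ 3 ≤ p ^ 3 := Nat.pow_le_pow_left (by omega) 3
        omega
      simp only [Set.mem_insert_iff, Set.mem_singleton_iff] at hsmall
      have hcase : p = 3 ∧ Nat.card V = 81 := by
        obtain ⟨hpd, hpV⟩ := hp'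
        have hpr := hp.out
        rcases hsmall with c | c | c | c | c | c <;> rw [c] at hpV hpn <;> interval_cases p <;>
          (try norm_num at hpr) <;> (try norm_num at hpV) <;> (try norm_num at hpn) <;> exact ⟨rfl, c⟩
      obtain ⟨hp3', h81⟩ := hcase
      rw [h81] at hdvd
      exact (le_of_eq hp3').trans (three_le_classes ((by norm_num : 2 ∣ 80).trans hdvd) ((by norm_num : 5 ∣ 80).trans hdvd))

end Cfsg.Agent.Perm.TransCoprimeLower
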