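import Mathlib
import Cfsg.Agent.Lib.Hall.Solvable
import Cfsg.Agent.Lib.Characters.Burnside

/-!
# Groups of order 120 with one involution and no element of order fifteen
-/

set_option autoImplicit false
set_option linter.style.haveILetI false

namespace Cfsg.Agent.Perm.TransCoprimeLower

theorem exists_order_fifteen {K : Type*} [Group K] [Finite K] (hK : Nat.card K = 15) :
    ∃ g : K, orderOf g = 15 := by
  classical
  haveI : Fact (Nat.Prime 3) := ⟨Nat.prime_three⟩
  haveI : Fact (Nat.Prime 5) := ⟨by norm_num⟩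
  obtain ⟨a, ha⟩ := exists_prime_orderOf_dvd_card' (G := K) 3 (by rw [hK]; norm_num)
  obtain ⟨b, hb⟩ := exists_prime_orderOf_dvd_card' (G := K) 5 (by rw [hK]; norm_num)
  set P := Subgroup.zpowers b
  have hP : Nat.card P = 5 := by rw [Nat.card_zpowers, hb]
  haveI hPn : P.Normal := by
    refine Subgroup.normal_of_index_eq_minFac_card ?_
    have h := P.index_mul_card
    rw [hK, hP] at h
    rw [hK, show Nat.minFac 15 = 3 by norm_num]
    omega
  haveI : IsCyclic P := isCyclic_of_prime_card hP
  let c : K →* MulAut P := MulAut.conjNormal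
  have hc : c a = 1 := by
    refine orderOf_eq_one_iff.1 (Nat.eq_one_of_dvd_coprimes (by norm_num : Nat.Coprime 3 4)
      (ha ▸ orderOf_map_dvd c a) ?_)
    refine (orderOf_dvd_natCard _).trans ?_
    rw [Nat.card_congr (IsCyclic.mulAutMulEquiv P).toEquiv, hP, Nat.card_eq_fintype_card,
      ZMod.card_units]
  have h := congrArg Subtype.val (DFunLike.congr_fun hc (⟨b, Subgroup.mem_zpowers b⟩ : P))
  change a * b * a⁻¹ = b at h
  refine ⟨a * b, ?_⟩
  rw [(show Commute a b from mul_inv_eq_iff_eq_mul.1 h).orderOf_mul_eq_mul_orderOf_of_coprime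
    (by rw [ha, hb]; norm_num), ha, hb]

variable {G : Type*} [Group G] [Finite G]

/-- a subgroup of order divisible by fifteen is insoluble -/
theorem not_solvable_of_fifteen (hG : Nat.card G = 120) (h15 : ∀ x : G, orderOf x ≠ 15)
    (K : Subgroup G) (hK : 15 ∣ Nat.card K) : ¬ Group.IsSolvable K := by
  intro hs
  obtain ⟨L, hL1, hL2⟩ := Hall.exists_hall ({3, 5} : Set ℕ) K
  haveI : Fact (Nat.Prime 3) := ⟨Nat.prime_three⟩
  haveI : Fact (Nat.Prime 5) := ⟨by norm_num⟩
  have h3 : ¬ 3 ∣ L.index := hL2 3 Nat.prime_three (Or.inl rfl)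
  have h5 : ¬ 5 ∣ L.index := hL2 5 (by norm_num) (Or.inr rfl)
  have hco : Nat.Coprime 15 L.index := by
    rw [show 15 = 3 * 5 by norm_num]
    exact Nat.Coprime.mul_left (Nat.prime_three.coprime_iff_not_dvd.2 h3)
      ((Nat.Prime.coprime_iff_not_dvd (by norm_num)).2 h5)
  have h15L : 15 ∣ Nat.card L := hco.dvd_of_dvd_mul_left (by rw [L.index_mul_card]; exact hK)
  have hLG : Nat.card L ∣ 120 := (Subgroup.card_subgroup_dvd_card L).trans
    (hG ▸ Subgroup.card_subgroup_dvd_card K)
  have h2 : ¬ 2 ∣ Nat.card L := fun h => by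
    rcases hL1 2 Nat.prime_two h with h' | h' <;> simp at h'
  have hL : Nat.card L = 15 := by
    have h120 : Nat.card L ∣ 2 ^ 3 * 15 := hLG
    exact Nat.dvd_antisymm
      (((Nat.prime_two.coprime_iff_not_dvd.2 h2).symm.pow_right 3).dvd_of_dvd_mul_left h120) h15L
  obtain ⟨g, hg⟩ := exists_order_fifteen hL
  exact h15 ((g : K) : G) (by rw [Subgroup.orderOf_coe, Subgroup.orderOf_coe, hg])

theorem not_solvable (hG : Nat.card G = 120) (h15 : ∀ x : G, orderOf x ≠ 15) : ¬ Group.IsSolvable G := by
  intro hs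
  haveI := hs
  exact not_solvable_of_fifteen hG h15 ⊤ (by rw [Subgroup.card_top, hG]; norm_num)
    inferInstance

/-- no proper subgroup of two-power index -/
theorem two_power_index (hG : Nat.card G = 120) (h15 : ∀ x : G, orderOf x ≠ 15) {u : G}
    (hu : orderOf u = 2) (huniq : ∀ x : G, orderOf x = 2 → x = u) (K : Subgroup G) {j : ℕ}
    (hK : K.index = 2 ^ j) : j = 0 := by
  by_contra hj
  have h := K.index_mul_card
  rw [hK, hG] at h
  have hj3 : j ≤ 3 := by
    by_contra hlt
    have h16 : 2 ^ 4 ∣ 120 := h ▸ dvd_mul_of_dvd_left (pow_dvd_pow 2 (by omega)) _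
    norm_num at h16
  have hsq : Squarefree 30 := by
    rw [show (30 : ℕ) = 2 * 15 by norm_num, Nat.squarefree_mul (by norm_num),
      show (15 : ℕ) = 3 * 5 by norm_num, Nat.squarefree_mul (by norm_num)]
    exact ⟨Nat.prime_two.squarefree, Nat.prime_three.squarefree,
      (show Nat.Prime 5 by norm_num).squarefree⟩
  have hzg : ∀ (L : Type _) [Group L] [Finite L], Nat.card L ∣ 30 → Group.IsSolvable L := by
    intro L _ _ hL
    haveI := IsZGroup.of_squarefree (G := L) (hsq.squarefree_of_dvd hL)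
    infer_instance
  refine not_solvable_of_fifteen hG h15 K ?_ ?_
  · interval_cases j <;> omega
  by_cases h30 : Nat.card K ∣ 30
  · exact hzg K h30
  have hK60 : Nat.card K = 60 := by
    interval_cases j <;> norm_num at h <;> first
      | omega
      | exact absurd (by rw [show Nat.card K = 30 by omega]) h30
      | exact absurd (by rw [show Nat.card K = 15 by omega]; norm_num) h30
  haveI : Fact (Nat.Prime 2) := ⟨Nat.prime_two⟩
  obtain ⟨t, ht⟩ := exists_prime_orderOf_dvd_card' (G := K) 2 (by rw [hK60]; norm_num)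
  have htu : (t : G) = u := huniq _ (by rw [Subgroup.orderOf_coe, ht])
  have hcen : t ∈ Subgroup.center K := Subgroup.mem_center_iff.2 fun y => Subtype.ext (by
    have h1 := huniq ((y : G) * (t : G) * (y : G)⁻¹) (by
      rw [← MulAut.conj_apply, MulEquiv.orderOf_eq, Subgroup.orderOf_coe, ht])
    rw [← htu] at h1
    exact mul_inv_eq_iff_eq_mul.1 h1)
  set Z := Subgroup.zpowers t
  haveI : Z.Normal := ⟨fun x hx y => by
    rw [(Subgroup.mem_center_iff.1 (Subgroup.zpowers_le.2 hcen hx) y), mul_inv_cancel_right]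
    exact hx⟩
  haveI : Group.IsSolvable Z := Group.isSolvable_of_comm fun a b => mul_comm' a b
  haveI : Group.IsSolvable (K ⧸ Z) := hzg _ (by
    have h1 := Z.index_mul_card
    rw [Nat.card_zpowers, ht, hK60, Subgroup.index_eq_card] at h1
    rw [show Nat.card (K ⧸ Z) = 30 by omega])
  exact Group.isSolvable_of_ker_le_range Z.subtype (QuotientGroup.mk' Z)
    (by rw [QuotientGroup.ker_mk', Subgroup.range_subtype])

end Cfsg.Agent.Perm.TransCoprimeLower
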