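import Mathlib
import Cfsg.Agent.Lib.Perm.NonsolvableRegular
import Cfsg.Agent.Lib.Perm.TransCoprimeLower.Main
import Cfsg.Agent.Lib.Perm.TransCoprimeLower.NoFifteen

/-!
# The lower bound for groups of automorphisms
-/

set_option autoImplicit false
set_option linter.style.haveILetI false
set_option linter.unusedSectionVars false

namespace Cfsg.Agent.Perm.TransCoprimeLower

open TransLinear (Trans)
open NearField (finite_H)
open scoped MatrixGroups

variable {p : ℕ} [hp : Fact p.Prime] {V : Type*} [AddCommGroup V] [Module (ZMod p) V] [Finite V]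

theorem lower_of_hom {G : Type*} [Group G] [Nontrivial V] (φ : G →* V ≃ₗ[ZMod p] V)
    (hφ : Function.Injective φ) (hcop : ¬ p ∣ Nat.card G)
    (htr : ∀ a b : V, a ≠ 0 → b ≠ 0 → ∃ g, φ g a = b) :
    p ≤ Nat.card (ConjClasses G) ∨
      (Nat.card V = p ∧ Nat.card (ConjClasses G) = p - 1 ∧ Nat.card G = p - 1) ∨
      (p = 11 ∧ Nat.card V = 121 ∧ Nat.card (ConjClasses G) = 9 ∧ Nat.card G = 120 ∧
        (∀ x : G, orderOf x ≠ 15) ∧ (∀ g : G, g ≠ 1 → ∀ v : V, φ g v = v → v = 0) ∧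
        Nonempty (G ≃* SL(2, ZMod 5))) := by
  classical
  haveI := finite_H (H := φ.range)
  let eG : G ≃* φ.range := MonoidHom.ofInjective hφ
  have hT : Trans φ.range := fun a b ha hb =>
    let ⟨g, hg⟩ := htr a b ha hb
    ⟨eG g, hg⟩
  obtain ⟨v, hv⟩ := exists_ne (0 : V)
  rw [TransCoprime.card_classes_congr eG, Nat.card_congr eG.toEquiv]
  rcases classes_lower (by rwa [← Nat.card_congr eG.toEquiv]) hT hv with
    h | h | ⟨h11, hV, hk, hH, h15⟩
  · exact Or.inl h
  · exact Or.inr (Or.inl h)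
  have hstab : ∀ u : V, u ≠ 0 → MulAction.stabilizer φ.range u = ⊥ := fun u hu => by
    have h := TransCoprime.card_eq_mul_stabilizer hT hu
    rw [hV, hH, show 121 - 1 = 120 by norm_num] at h
    exact Subgroup.card_eq_one.1 (by omega)
  have hfree : ∀ g : G, g ≠ 1 → ∀ u : V, φ g u = u → u = 0 := by
    intro g hg u hu
    by_contra hu0
    have hmem : eG g ∈ MulAction.stabilizer φ.range u := hu
    rw [hstab u hu0, Subgroup.mem_bot] at hmem
    exact hg (eG.injective (hmem.trans (map_one eG).symm))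
  have hreg : NearField.Reg φ.range := by
    intro a b ha hb
    obtain ⟨h, hh⟩ := hT a b ha hb
    refine ⟨h, hh, fun k hk => ?_⟩
    have hmem : h⁻¹ * k ∈ MulAction.stabilizer φ.range a := by
      show ((h⁻¹ * k : φ.range) : V ≃ₗ[ZMod p] V) a = a
      rw [Subgroup.coe_mul, LinearEquiv.mul_apply, hk, ← hh, Subgroup.coe_inv]
      exact (h : V ≃ₗ[ZMod p] V).symm_apply_apply a
    rw [hstab a ha, Subgroup.mem_bot, inv_mul_eq_one] at hmem
    exact hmem.symm
  obtain ⟨m, hm, ⟨e⟩⟩ := NearField.nonsolvable_regular hreg (not_solvable hH h15)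
  refine Or.inr (Or.inr ⟨h11, hV, hk, hH, fun x => ?_, hfree, ?_⟩)
  · rw [← MulEquiv.orderOf_eq eG]; exact h15 _
  rcases hm with ⟨-, rfl⟩ | ⟨h', -⟩ | ⟨h', -⟩
  · exact ⟨eG.trans (e.trans MulEquiv.prodUnique)⟩
  · omega
  · omega

theorem lower_of_addHom {W G : Type*} [AddCommGroup W] [Finite W] [Nontrivial W] [Group G] {q : ℕ}
    [Fact q.Prime] (hexp : ∀ x : W, q • x = 0) (φ : G → W ≃+ W)
    (hmul : ∀ a b x, φ (a * b) x = φ a (φ b x)) (hφ : Function.Injective φ)
    (hcop : ¬ q ∣ Nat.card G) (htr : ∀ a b : W, a ≠ 0 → b ≠ 0 → ∃ g, φ g a = b) :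
    q ≤ Nat.card (ConjClasses G) ∨
      (Nat.card W = q ∧ Nat.card (ConjClasses G) = q - 1 ∧ Nat.card G = q - 1) ∨
      (q = 11 ∧ Nat.card W = 121 ∧ Nat.card (ConjClasses G) = 9 ∧ Nat.card G = 120 ∧
        (∀ x : G, orderOf x ≠ 15) ∧ (∀ g : G, g ≠ 1 → ∀ v : W, φ g v = v → v = 0) ∧
        Nonempty (G ≃* SL(2, ZMod 5))) := by
  haveI M : Module (ZMod q) W := AddCommGroup.zmodModule hexp
  let L : G → W ≃ₗ[ZMod q] W := fun g => (φ g).toLinearEquiv fun c x => ZMod.map_smul (φ g) c x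
  let ψ : G →* (W ≃ₗ[ZMod q] W) :=
    MonoidHom.mk' L fun a b => LinearEquiv.ext fun x => (hmul a b x).trans (LinearEquiv.mul_apply (L a) (L b) x).symm
  exact lower_of_hom (p := q) ψ (fun g g' e => hφ (AddEquiv.ext fun x => LinearEquiv.congr_fun e x))
    hcop htr

/-- the lower bound for a coprime group of automorphisms -/
theorem lower_of_action {A G : Type*} [CommGroup A] [Finite A] [Group G] {q : ℕ} [Fact q.Prime]
    (hexp : ∀ a : A, a ^ q = 1) (φ : G →* MulAut A) (hφ : Function.Injective φ) [Nontrivial A]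
    (hcop : ¬ q ∣ Nat.card G) (htr : ∀ a b : A, a ≠ 1 → b ≠ 1 → ∃ g, φ g a = b) :
    q ≤ Nat.card (ConjClasses G) ∨
      (Nat.card A = q ∧ Nat.card (ConjClasses G) = q - 1 ∧ Nat.card G = q - 1) ∨
      (q = 11 ∧ Nat.card A = 121 ∧ Nat.card (ConjClasses G) = 9 ∧ Nat.card G = 120 ∧
        (∀ x : G, orderOf x ≠ 15) ∧ (∀ g : G, g ≠ 1 → ∀ v : A, φ g v = v → v = 1) ∧
        Nonempty (G ≃* SL(2, ZMod 5))) := by
  have hA : Nat.card (Additive A) = Nat.card A := Nat.card_congr Additive.toMul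
  rcases lower_of_addHom (W := Additive A) (q := q)
    (fun x => congrArg Additive.ofMul (hexp (Additive.toMul x)))
    (fun g => MulEquiv.toAdditive (φ g))
    (fun a b x => congrArg Additive.ofMul (DFunLike.congr_fun (map_mul φ a b) (Additive.toMul x)))
    (fun g g' e => hφ (MulEquiv.ext fun a =>
      congrArg Additive.toMul (DFunLike.congr_fun e (Additive.ofMul a))))
    hcop (fun a b ha hb => by
      obtain ⟨g, hg⟩ := htr (Additive.toMul a) (Additive.toMul b)
        (fun e => ha (Additive.toMul.injective e)) (fun e => hb (Additive.toMul.injective e))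
      exact ⟨g, Additive.toMul.injective hg⟩) with h | h | ⟨h1, h2, h3, h4, h5, h6, h7⟩
  · exact Or.inl h
  · exact Or.inr (Or.inl (hA ▸ h))
  · exact Or.inr (Or.inr ⟨h1, hA ▸ h2, h3, h4, h5,
      fun g hg v hv => congrArg Additive.toMul (h6 g hg (Additive.ofMul v) (congrArg Additive.ofMul hv)), h7⟩)

end Cfsg.Agent.Perm.TransCoprimeLower
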