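import Mathlib
import Cfsg.Agent.S4956

/-!
# Classes of elements of order prime to p, under quotients and in split extensions
-/

set_option autoImplicit false
set_option linter.style.haveILetI false

namespace Cfsg.Agent.Perm.TransCoprimeLower

/-- the classes of elements of order prime to `p` -/
abbrev RegC (p : ℕ) (G : Type*) [Group G] :=
  {c : ConjClasses G // ∃ g : G, ConjClasses.mk g = c ∧ ¬ p ∣ orderOf g}

section counting

variable {α β : Type*} [Finite α] (Φ : α → β)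

theorem add_one_le (hs : Function.Surjective Φ) {a b : α} (hab : a ≠ b) (h : Φ a = Φ b) :
    Nat.card β + 1 ≤ Nat.card α := by
  classical
  haveI := Finite.of_surjective Φ hs
  have hs' : Function.Surjective (fun x : {x : α // x ≠ a} => Φ x) := fun y => by
    obtain ⟨x, rfl⟩ := hs y
    by_cases hx : x = a
    · exact ⟨⟨b, hab.symm⟩, by rw [hx, h]⟩
    · exact ⟨⟨x, hx⟩, rfl⟩
  have h1 := Nat.card_le_card_of_surjective _ hs'
  haveI := Fintype.ofFinite α
  have h2 : Nat.card {x : α // x ≠ a} + 1 = Nat.card α := by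
    rw [Nat.card_eq_fintype_card, Nat.card_eq_fintype_card, Fintype.card_subtype_compl,
      Fintype.card_subtype_eq]
    exact Nat.sub_add_cancel (Fintype.card_pos_iff.2 ⟨a⟩)
  omega

theorem add_two_le (hs : Function.Surjective Φ) {a b c d : α} (hab : a ≠ b) (hcd : c ≠ d)
    (hca : c ≠ a) (hda : d ≠ a) (h : Φ a = Φ b) (h' : Φ c = Φ d) :
    Nat.card β + 2 ≤ Nat.card α := by
  classical
  haveI := Fintype.ofFinite α
  let Φ' : {x : α // x ≠ a} → β := fun x => Φ x
  have hs' : Function.Surjective Φ' := fun y => by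
    obtain ⟨x, rfl⟩ := hs y
    by_cases hx : x = a
    · exact ⟨⟨b, hab.symm⟩, by rw [hx, h]⟩
    · exact ⟨⟨x, hx⟩, rfl⟩
  have h1 := add_one_le Φ' hs' (a := ⟨c, hca⟩) (b := ⟨d, hda⟩)
    (fun e => hcd (congrArg Subtype.val e)) h'
  have h2 : Nat.card {x : α // x ≠ a} + 1 = Nat.card α := by
    rw [Nat.card_eq_fintype_card, Nat.card_eq_fintype_card, Fintype.card_subtype_compl,
      Fintype.card_subtype_eq]
    exact Nat.sub_add_cancel (Fintype.card_pos_iff.2 ⟨a⟩)
  omega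

end counting

variable {G Q : Type*} [Group G] [Group Q] {p : ℕ}

/-- the image of a regular element is regular -/
theorem regular_map (f : G →* Q) {g : G} (hg : ¬ p ∣ orderOf g) : ¬ p ∣ orderOf (f g) :=
  fun h => hg (h.trans (orderOf_map_dvd f g))

/-- classes of regular elements map to such -/
def regMap (p : ℕ) (f : G →* Q) : RegC p G → RegC p Q := fun c =>
  ⟨ConjClasses.map f c.1, by
    obtain ⟨g, hg, hgp⟩ := c.2
    exact ⟨f g, by rw [← hg]; rfl, regular_map f hgp⟩⟩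

theorem regular_lift [Finite G] [hp : Fact p.Prime] (f : G →* Q) (hf : Function.Surjective f) {y : Q}
    (hy : ¬ p ∣ orderOf y) : ∃ g : G, f g = y ∧ ¬ p ∣ orderOf g := by
  obtain ⟨g₀, rfl⟩ := hf y
  obtain ⟨a, m, hm, hord⟩ := Nat.exists_eq_pow_mul_and_not_dvd (orderOf_pos g₀).ne' p hp.out.ne_one
  obtain ⟨i, hi⟩ := exists_pow_eq_self_of_coprime (x := f g₀) (n := p ^ a)
    ((hp.out.coprime_iff_not_dvd.2 hy).pow_left a)
  refine ⟨(g₀ ^ p ^ a) ^ i, by rw [map_pow, map_pow, hi], fun h => hm (h.trans ?_)⟩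
  refine orderOf_dvd_of_pow_eq_one ?_
  rw [← pow_mul, mul_comm i, pow_mul, ← pow_mul g₀, ← hord, pow_orderOf_eq_one, one_pow]

theorem regMap_surjective [Finite G] [Fact p.Prime] (f : G →* Q) (hf : Function.Surjective f) :
    Function.Surjective (regMap p f) := by
  rintro ⟨c, y, hy, hyp⟩
  obtain ⟨g, hg, hgp⟩ := regular_lift f hf hyp
  exact ⟨⟨ConjClasses.mk g, g, rfl, hgp⟩, Subtype.ext (by
    show ConjClasses.mk (f g) = c
    rw [hg, hy])⟩

/-- over a kernel of order prime to `p`, the elements above regular ones are regular -/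
theorem regular_of_image [hp : Fact p.Prime] (f : G →* Q) (hker : ¬ p ∣ Nat.card f.ker) {g : G}
    (hg : ¬ p ∣ orderOf (f g)) : ¬ p ∣ orderOf g := by
  intro h
  have h1 : g ^ orderOf (f g) ∈ f.ker := by rw [MonoidHom.mem_ker, map_pow, pow_orderOf_eq_one]
  have h2 : orderOf g ∣ orderOf (f g) * Nat.card f.ker := by
    refine orderOf_dvd_of_pow_eq_one ?_
    rw [pow_mul]
    exact orderOf_dvd_iff_pow_eq_one.1 (Subgroup.orderOf_dvd_natCard _ h1)
  exact ((hp.out.dvd_mul).1 (h.trans h2)).elim hg hker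

/-- the regular classes of a split extension of a group of exponent `p` by a group of order prime to `p` -/
theorem card_regC_of_complement [Finite G] [hp : Fact p.Prime] (V : Subgroup G) [V.Normal]
    (hab : ∀ a ∈ V, ∀ b ∈ V, a * b = b * a) (hexp : ∀ v ∈ V, v ^ p = 1) (H : Subgroup G)
    (hVH : Subgroup.IsComplement' V H) (hH : ¬ p ∣ Nat.card H) :
    Nat.card (RegC p G) = Nat.card (ConjClasses H) := by
  classical
  have hreg : ∀ h : H, ¬ p ∣ orderOf (h : G) := fun h hd => by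
    rw [Subgroup.orderOf_coe] at hd
    exact hH (hd.trans (orderOf_dvd_natCard h))
  let Φ : ConjClasses H → RegC p G := fun c => ⟨ConjClasses.map H.subtype c, by
    obtain ⟨h, rfl⟩ := ConjClasses.exists_rep c
    exact ⟨(h : G), rfl, hreg h⟩⟩
  refine (Nat.card_congr (Equiv.ofBijective Φ ⟨fun c d e => ?_, ?_⟩)).symm
  · obtain ⟨a, rfl⟩ := ConjClasses.exists_rep c
    obtain ⟨b, rfl⟩ := ConjClasses.exists_rep d
    obtain ⟨g, hg⟩ := isConj_iff.1
      (ConjClasses.mk_eq_mk_iff_isConj.1 (congrArg Subtype.val e : ConjClasses.mk (a : G) = ConjClasses.mk (b : G)))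
    change g * (a : G) * g⁻¹ = (b : G) at hg
    obtain ⟨v, hv, h, hh, rfl⟩ : ∃ v ∈ V, ∃ h ∈ H, g = v * h := by
      obtain ⟨⟨⟨v, hv⟩, ⟨h, hh⟩⟩, rfl⟩ := hVH.2 g
      exact ⟨v, hv, h, hh, rfl⟩
    refine ConjClasses.mk_eq_mk_iff_isConj.2 (isConj_iff.2 ⟨⟨h, hh⟩, Subtype.ext ?_⟩)
    show h * (a : G) * h⁻¹ = (b : G)
    set w := h * (a : G) * h⁻¹ with hw
    have hwH : w ∈ H := H.mul_mem (H.mul_mem hh a.2) (H.inv_mem hh)
    have hb : (b : G) = v * w * v⁻¹ := by rw [← hg, hw]; group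
    have hmem : (b : G) * w⁻¹ ∈ V := by
      rw [hb, show v * w * v⁻¹ * w⁻¹ = v * (w * v⁻¹ * w⁻¹) by group]
      exact V.mul_mem hv (Subgroup.Normal.conj_mem inferInstance _ (V.inv_mem hv) w)
    have h1 : (b : G) * w⁻¹ ∈ (V ⊓ H : Subgroup G) := ⟨hmem, H.mul_mem b.2 (H.inv_mem hwH)⟩
    rw [hVH.disjoint.eq_bot, Subgroup.mem_bot, mul_inv_eq_one] at h1
    exact h1.symm
  · rintro ⟨c, x, rfl, hx⟩
    obtain ⟨⟨⟨w, hw⟩, ⟨g, hg⟩⟩, rfl⟩ := hVH.2 x
    change ¬ p ∣ orderOf (w * g) at hx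
    have hco : Nat.Coprime (Nat.card H) p := ((hp.out.coprime_iff_not_dvd).2 hH).symm
    obtain ⟨m, hm⟩ := Nat.exists_mul_mod_eq_one_of_coprime hco hp.out.one_lt
    have hgn : g ^ Nat.card H = 1 := orderOf_dvd_iff_pow_eq_one.1 (Subgroup.orderOf_dvd_natCard H hg)
    have hm' : ∀ v ∈ V, v ^ (Nat.card H * m) = v := fun v hv => by
      rw [pow_eq_pow_mod _ (hexp v hv), hm.2, pow_one]
    obtain ⟨u, hu, y, hy, hgy, hconj⟩ := S4956.exists_conj V hab w g hw (Nat.card H) m hgn hm'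
    set r := orderOf (w * g)
    have hyg : (y * g) ^ r = 1 := by
      rw [← hconj, show u⁻¹ * (w * g) * u = u⁻¹ * (w * g) * (u⁻¹)⁻¹ by rw [inv_inv], conj_pow,
        pow_orderOf_eq_one, mul_one, mul_inv_cancel]
    have hy1 : y ^ (r * Nat.card H) = 1 := by
      have h2 : (y * g) ^ (r * Nat.card H) = 1 := by rw [pow_mul, hyg, one_pow]
      rw [(show Commute y g from hgy.symm).mul_pow, mul_comm r, pow_mul g, hgn, one_pow, mul_one] at h2
      rwa [mul_comm]
    have hy2 : y = 1 := by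
      refine orderOf_eq_one_iff.1 (Nat.eq_one_of_dvd_coprimes ?_
        (orderOf_dvd_of_pow_eq_one (hexp y hy)) (orderOf_dvd_of_pow_eq_one hy1))
      exact Nat.Coprime.mul_right (hp.out.coprime_iff_not_dvd.2 hx) hco.symm
    rw [hy2, one_mul] at hconj
    refine ⟨ConjClasses.mk ⟨g, hg⟩, Subtype.ext (ConjClasses.mk_eq_mk_iff_isConj.2 ?_)⟩
    refine isConj_iff.2 ⟨u, ?_⟩
    show u * g * u⁻¹ = w * g
    calc u * g * u⁻¹ = u * (u⁻¹ * (w * g) * u) * u⁻¹ := by rw [hconj]
      _ = _ := by group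

end Cfsg.Agent.Perm.TransCoprimeLower
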