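import Mathlib
import Cfsg.Agent.Lib.PLocal.Cores
import Cfsg.Agent.Lib.Perm.TransCoprimeLower.RegularClasses
import Cfsg.Agent.Lib.Perm.TransCoprimeLower.NoFifteen

/-!
# Extensions of the exceptional Frobenius group of order 121·120
-/

set_option autoImplicit false
set_option linter.style.haveILetI false

namespace Cfsg.Agent.Perm.TransCoprimeLower

/-- a `q`-element fixes a nontrivial point of a normal `q`-group -/
theorem exists_fixed {G : Type*} [Group G] [Finite G] {q : ℕ} [Fact q.Prime] (N : Subgroup G) [N.Normal]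
    (hN : IsPGroup q N) (hne : N ≠ ⊥) {y : G} (hy : ∃ k, orderOf y = q ^ k) :
    ∃ n ∈ N, n ≠ 1 ∧ y * n = n * y := by
  classical
  obtain ⟨k, hk⟩ := hy
  set L := Subgroup.zpowers y
  have hL : IsPGroup q L := IsPGroup.of_card (n := k) (by rw [Nat.card_zpowers, hk])
  letI : MulAction L N := MulAction.compHom N ((MulAut.conjNormal (H := N)).comp L.subtype)
  obtain ⟨j, hj⟩ := IsPGroup.iff_card.1 hN
  have hj0 : j ≠ 0 := fun h => hne (Subgroup.card_eq_one.1 (by rw [hj, h, pow_zero]))
  have h1 : (1 : N) ∈ MulAction.fixedPoints L N := fun l => by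
    show MulAut.conjNormal (l : G) (1 : N) = 1
    exact map_one _
  obtain ⟨n, hn, hn1⟩ := hL.exists_fixed_point_of_prime_dvd_card_of_fixed_point N
    (by rw [hj]; exact dvd_pow_self q hj0) h1
  refine ⟨(n : G), n.2, fun e => hn1 (Subtype.ext e.symm), ?_⟩
  have h := congrArg Subtype.val (hn ⟨y, Subgroup.mem_zpowers y⟩)
  change y * (n : G) * y⁻¹ = n at h
  exact mul_inv_eq_iff_eq_mul.1 h

/-- a single class above an element -/
theorem card_centralizer_of_single_class {G : Type*} [Group G] [Finite G] (N : Subgroup G) [N.Normal]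
    (y : G) (h1 : ∀ n ∈ N, IsConj y (y * n)) :
    Nat.card (Subgroup.centralizer ({y} : Set G)) =
      Nat.card (Subgroup.centralizer ({(y : G ⧸ N)} : Set (G ⧸ N))) := by
  classical
  set D := (Subgroup.centralizer ({(y : G ⧸ N)} : Set (G ⧸ N))).comap (QuotientGroup.mk' N) with hD
  have hDc : Nat.card D = Nat.card N * Nat.card (Subgroup.centralizer ({(y : G ⧸ N)} : Set (G ⧸ N))) := by
    rw [hD, PLocal.Cores.card_comap_eq _ (QuotientGroup.mk'_surjective N), QuotientGroup.ker_mk']
  have hCD : Subgroup.centralizer ({y} : Set G) ≤ D := fun g hg => by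
    rw [hD, Subgroup.mem_comap, Subgroup.mem_centralizer_singleton_iff]
    show (g : G ⧸ N) * y = y * g
    rw [← QuotientGroup.mk_mul, ← QuotientGroup.mk_mul, Subgroup.mem_centralizer_singleton_iff.1 hg]
  letI : MulAction D G := MulAction.compHom G ((MulAut.conj).comp D.subtype)
  have horb : MulAction.orbit D y = {g : G | (g : G ⧸ N) = y} := by
    ext g
    constructor
    · rintro ⟨d, rfl⟩
      show (((d : G) * y * (d : G)⁻¹ : G) : G ⧸ N) = y
      have hd := Subgroup.mem_centralizer_singleton_iff.1 (Subgroup.mem_comap.1 d.2)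
      change ((d : G) : G ⧸ N) * y = y * (d : G) at hd
      rw [QuotientGroup.mk_mul, QuotientGroup.mk_mul, hd, QuotientGroup.mk_inv, mul_inv_cancel_right]
    · intro hg
      have hn : y⁻¹ * g ∈ N := QuotientGroup.eq.1 hg.symm
      obtain ⟨c, hc⟩ := isConj_iff.1 (h1 _ hn)
      rw [mul_inv_cancel_left] at hc
      refine ⟨⟨c, ?_⟩, hc⟩
      rw [hD, Subgroup.mem_comap, Subgroup.mem_centralizer_singleton_iff]
      show (c : G ⧸ N) * y = y * c
      have e : ((c * y * c⁻¹ : G) : G ⧸ N) = y := by rw [hc]; exact hg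
      rw [QuotientGroup.mk_mul, QuotientGroup.mk_mul, QuotientGroup.mk_inv] at e
      exact mul_inv_eq_iff_eq_mul.1 e
  have hstab : Nat.card (MulAction.stabilizer D y) = Nat.card (Subgroup.centralizer ({y} : Set G)) :=
    Nat.card_congr
      { toFun := fun d => ⟨((d : D) : G), Subgroup.mem_centralizer_singleton_iff.2
          (mul_inv_eq_iff_eq_mul.1 d.2)⟩
        invFun := fun c => ⟨⟨(c : G), hCD c.2⟩,
          mul_inv_eq_iff_eq_mul.2 (Subgroup.mem_centralizer_singleton_iff.1 c.2)⟩
        left_inv := fun d => rfl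
        right_inv := fun c => rfl }
  have horbc : Nat.card (MulAction.orbit D y) = Nat.card N := by
    rw [horb]
    refine Nat.card_congr
      { toFun := fun g => ⟨y⁻¹ * (g : G), QuotientGroup.eq.1 g.2.symm⟩
        invFun := fun n => ⟨y * (n : G), by
          show ((y * (n : G) : G) : G ⧸ N) = y
          rw [QuotientGroup.mk_mul, (QuotientGroup.eq_one_iff _).2 n.2, mul_one]⟩
        left_inv := fun g => Subtype.ext (mul_inv_cancel_left _ _)
        right_inv := fun n => Subtype.ext (inv_mul_cancel_left _ _) }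
  have h := Subgroup.card_eq_card_quotient_mul_card_subgroup (MulAction.stabilizer D y)
  rw [← Nat.card_congr (MulAction.orbitEquivQuotientStabilizer D y), horbc, hstab, hDc] at h
  exact (Nat.eq_of_mul_eq_mul_left Nat.card_pos h).symm

/-- the regular elements of the exceptional group have small centralizers -/
theorem card_centralizer_dvd {Q : Type*} [Group Q] [Finite Q] (V H : Subgroup Q) [V.Normal]
    (hVH : Subgroup.IsComplement' V H) (hV : Nat.card V = 121) (hH : Nat.card H = 120)
    (hab : ∀ a ∈ V, ∀ b ∈ V, a * b = b * a)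
    (hfree : ∀ h ∈ H, h ≠ 1 → ∀ v ∈ V, v * h = h * v → v = 1) {y : Q} (hy : ¬ 11 ∣ orderOf y)
    (hy1 : y ≠ 1) : Nat.card (Subgroup.centralizer ({y} : Set Q)) ∣ 120 := by
  set C := Subgroup.centralizer ({y} : Set Q)
  have hidx : V.index = 120 := hVH.symm.index_eq_card.trans hH
  have hCV : ∀ w ∈ V, w ∈ C → w = 1 := by
    intro w hw hwC
    obtain ⟨⟨⟨v, hv⟩, ⟨h, hh⟩⟩, rfl⟩ := hVH.2 y
    change ¬ 11 ∣ orderOf (v * h) at hy
    change v * h ≠ 1 at hy1
    have hwC' : w * (v * h) = v * h * w := Subgroup.mem_centralizer_singleton_iff.1 hwC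
    have h1 : h ≠ 1 := by
      intro e
      rw [e, mul_one] at hy hy1
      have hd := Subgroup.orderOf_dvd_natCard V hv
      rw [hV, show 121 = 11 ^ 2 by norm_num, Nat.dvd_prime_pow (by norm_num)] at hd
      obtain ⟨i, -, hi⟩ := hd
      rcases Nat.eq_zero_or_pos i with rfl | hi0
      · exact hy1 (orderOf_eq_one_iff.1 (by rw [hi, pow_zero]))
      · exact hy (hi ▸ dvd_pow_self 11 (by omega))
    refine hfree h hh h1 w hw ?_
    rw [← mul_assoc, hab w hw v hv, mul_assoc, mul_assoc] at hwC'
    exact mul_left_cancel hwC'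
  rw [← hidx, Subgroup.index_eq_card]
  exact Subgroup.card_dvd_of_injective ((QuotientGroup.mk' V).comp C.subtype)
    ((injective_iff_map_eq_one _).2 fun c hc =>
      Subtype.ext (hCV c ((QuotientGroup.eq_one_iff _).1 hc) c.2))

/-- an involution of the complement is central in it -/
theorem involution_facts {Q : Type*} [Group Q] [Finite Q] (V H : Subgroup Q) [V.Normal] (hne : V ≠ ⊥)
    (hab : ∀ a ∈ V, ∀ b ∈ V, a * b = b * a)
    (hfree : ∀ h ∈ H, h ≠ 1 → ∀ v ∈ V, v * h = h * v → v = 1) {t s : Q} (ht : t ∈ H) (hs : s ∈ H)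
    (ht2 : orderOf t = 2) (hs2 : orderOf s = 2) : t = s := by
  have hinv : ∀ a ∈ H, orderOf a = 2 → ∀ v ∈ V, a * v * a⁻¹ = v⁻¹ := by
    intro a ha ha2 v hv
    have haa : a * a = 1 := by rw [← sq, ← ha2, pow_orderOf_eq_one]
    have hai : a⁻¹ = a := inv_eq_of_mul_eq_one_left haa
    set w := a * v * a⁻¹ with hw
    have hwV : w ∈ V := Subgroup.Normal.conj_mem inferInstance v hv a
    have hwV' : a * v * a ∈ V := by have := hwV; rwa [hw, hai] at this
    have hfix : v * w * a = a * (v * w) := by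
      rw [hw, hab v hv _ (hw ▸ hwV), hai]
      calc a * v * a * v * a = (a * v * a) * v * a := rfl
        _ = v * (a * v * a) * a := by rw [hab _ hwV' v hv]
        _ = v * a * v * (a * a) := by group
        _ = v * a * v := by rw [haa, mul_one]
        _ = (a * a) * v * a * v := by rw [haa, one_mul]
        _ = a * (a * v * a * v) := by group
    have h1 : a ≠ 1 := fun e => by rw [e, orderOf_one] at ha2; omega
    exact eq_inv_of_mul_eq_one_right (hfree a ha h1 (v * w) (V.mul_mem hv hwV) hfix)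
  by_contra hts
  obtain ⟨v, hv, hv1⟩ := (Subgroup.bot_or_exists_ne_one V).resolve_left hne
  refine hv1 (hfree (t * s⁻¹) (H.mul_mem ht (H.inv_mem hs)) (fun e => hts (mul_inv_eq_one.1 e)) v hv ?_)
  have h2 := hinv t ht ht2 v⁻¹ (V.inv_mem hv)
  have h3 := hinv s hs hs2 v⁻¹ (V.inv_mem hv)
  rw [inv_inv] at h2 h3
  have e : (t * s⁻¹) * v * (t * s⁻¹)⁻¹ = v := by
    have h4 : s⁻¹ * v * s = v⁻¹ := by
      calc s⁻¹ * v * s = s⁻¹ * (s * v⁻¹ * s⁻¹) * s := by rw [h3]
        _ = v⁻¹ := by group
    calc (t * s⁻¹) * v * (t * s⁻¹)⁻¹ = t * (s⁻¹ * v * s) * t⁻¹ := by group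
      _ = v := by rw [h4, h2]
  exact (mul_inv_eq_iff_eq_mul.1 e).symm

set_option maxHeartbeats 800000 in
/-- a proper extension by a group of order prime to eleven gains two classes -/
theorem extension_count {G : Type*} [Group G] [Finite G] [Fact (Nat.Prime 11)] (N : Subgroup G) [N.Normal]
    (hNne : N ≠ ⊥) (hN11 : ¬ 11 ∣ Nat.card N) (V H : Subgroup (G ⧸ N)) [V.Normal]
    (hVH : Subgroup.IsComplement' V H) (hV : Nat.card V = 121) (hH : Nat.card H = 120)
    (hab : ∀ a ∈ V, ∀ b ∈ V, a * b = b * a) (h15 : ∀ x : H, orderOf x ≠ 15)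
    (hfree : ∀ h ∈ H, h ≠ 1 → ∀ v ∈ V, v * h = h * v → v = 1)
    (hR : Nat.card (RegC 11 (G ⧸ N)) = 9) : 11 ≤ Nat.card (RegC 11 G) := by
  classical
  by_contra hlt
  set π := QuotientGroup.mk' N with hπ
  have hπs : Function.Surjective π := QuotientGroup.mk'_surjective N
  have hkerπ : π.ker = N := QuotientGroup.ker_mk' N
  set Φ := regMap 11 π
  have hΦ : Function.Surjective Φ := regMap_surjective π hπs
  have hno : ∀ a b c d : RegC 11 G, a ≠ b → c ≠ d → c ≠ a → d ≠ a → Φ a = Φ b → Φ c = Φ d → False := by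
    intro a b c d h1 h2 h3 h4 h5 h6
    have := add_two_le Φ hΦ h1 h2 h3 h4 h5 h6
    omega
  have hregN : ∀ n ∈ N, ¬ 11 ∣ orderOf n := fun n hn h =>
    hN11 (h.trans (Subgroup.orderOf_dvd_natCard N hn))
  let mkR : ∀ g : G, ¬ 11 ∣ orderOf g → RegC 11 G := fun g hg => ⟨ConjClasses.mk g, g, rfl, hg⟩
  have hmk : ∀ g h : G, ConjClasses.mk g = ConjClasses.mk h → IsConj g h := fun g h e =>
    ConjClasses.mk_eq_mk_iff_isConj.1 e
  obtain ⟨n₀, hn₀, hn₀1⟩ := (Subgroup.bot_or_exists_ne_one N).resolve_left hNne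
  have h1reg : ¬ 11 ∣ orderOf (1 : G) := by rw [orderOf_one]; norm_num
  have hΦN : ∀ n (hn : n ∈ N), Φ (mkR n (hregN n hn)) = Φ (mkR 1 h1reg) := fun n hn => Subtype.ext (by
    show ConjClasses.mk (π n) = ConjClasses.mk (π 1)
    rw [map_one]
    exact congrArg ConjClasses.mk ((QuotientGroup.eq_one_iff n).2 hn))
  have hne1 : ∀ n (hn : n ∈ N), n ≠ 1 → mkR n (hregN n hn) ≠ mkR 1 h1reg := fun n hn h1 e =>
    h1 (isConj_one_left.1 (hmk _ _ (congrArg Subtype.val e)))
  -- one class in the kernel
  have hconjN : ∀ n ∈ N, n ≠ 1 → IsConj n₀ n := by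
    intro n hn hn1
    by_contra hnc
    exact hno (mkR n₀ (hregN _ hn₀)) (mkR 1 h1reg) (mkR n (hregN _ hn)) (mkR 1 h1reg)
      (hne1 _ hn₀ hn₀1) (hne1 _ hn hn1) (fun e => hnc (hmk _ _ (congrArg Subtype.val e)).symm)
      (hne1 _ hn₀ hn₀1).symm (hΦN _ hn₀) (hΦN _ hn)
  -- one class above the other regular elements
  have hfib : ∀ y : G, ¬ 11 ∣ orderOf (π y) → π y ≠ 1 → ∀ n ∈ N, IsConj y (y * n) := by
    intro y hy hy1 n hn
    by_contra hnc
    have hr : ∀ g : G, π g = π y → ¬ 11 ∣ orderOf g := fun g hg =>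
      regular_of_image π (by rw [hkerπ]; exact hN11) (hg ▸ hy)
    have hπn : π (y * n) = π y := by
      rw [map_mul, show π n = 1 from (QuotientGroup.eq_one_iff n).2 hn, mul_one]
    have hne : ∀ g (hg : π g = π y), mkR g (hr g hg) ≠ mkR n₀ (hregN _ hn₀) := by
      intro g hg e
      have h := (hmk _ _ (congrArg Subtype.val e))
      have h' : IsConj (π g) (π n₀) := π.map_isConj h
      rw [show π n₀ = 1 from (QuotientGroup.eq_one_iff n₀).2 hn₀, hg] at h'
      exact hy1 (isConj_one_left.1 h')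
    refine hno (mkR n₀ (hregN _ hn₀)) (mkR 1 h1reg) (mkR y (hr y rfl)) (mkR (y * n) (hr _ hπn))
      (hne1 _ hn₀ hn₀1) (fun e => hnc (hmk _ _ (congrArg Subtype.val e))) (hne y rfl) (hne _ hπn) (hΦN _ hn₀)
      (Subtype.ext ?_)
    show ConjClasses.mk (π y) = ConjClasses.mk (π (y * n))
    rw [hπn]
  have hcen : ∀ y : G, ¬ 11 ∣ orderOf (π y) → π y ≠ 1 →
      Nat.card (Subgroup.centralizer ({y} : Set G)) =
          Nat.card (Subgroup.centralizer ({π y} : Set (G ⧸ N))) ∧
        Nat.card (Subgroup.centralizer ({y} : Set G)) ∣ 120 := fun y hy hy1 =>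
    have h := card_centralizer_of_single_class N y (hfib y hy hy1)
    ⟨h, by rw [h]; exact card_centralizer_dvd V H hVH hV hH hab hfree hy hy1⟩
  -- the kernel is a q-group
  obtain ⟨q, hq, hqd⟩ := Nat.exists_prime_and_dvd (n := Nat.card N) (fun e => hNne (Subgroup.card_eq_one.1 e))
  haveI := Fact.mk hq
  obtain ⟨m, hm⟩ := exists_prime_orderOf_dvd_card' (G := N) q hqd
  have hordN : ∀ n ∈ N, n ≠ 1 → orderOf n = q := by
    intro n hn hn1
    have ho : ∀ a b : G, IsConj a b → orderOf a = orderOf b := fun a b h => by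
      obtain ⟨c, hc⟩ := isConj_iff.1 h
      rw [← hc, ← MulAut.conj_apply, MulEquiv.orderOf_eq]
    rw [← ho _ _ (hconjN n hn hn1), ho _ _ (hconjN (m : G) m.2 fun e => ?_), Subgroup.orderOf_coe, hm]
    rw [← Subgroup.orderOf_coe, e, orderOf_one] at hm
    exact hq.ne_one hm.symm
  have hNq : IsPGroup q N := fun n => by
    by_cases hn : n = 1
    · exact ⟨0, by rw [hn, one_pow]⟩
    refine ⟨1, ?_⟩
    rw [pow_one, ← hordN n n.2 (fun e => hn (Subtype.ext e)), Subgroup.orderOf_coe, pow_orderOf_eq_one]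
  obtain ⟨e, he⟩ := IsPGroup.iff_card.1 hNq
  have he0 : e ≠ 0 := fun h => hNne (Subgroup.card_eq_one.1 (by rw [he, h, pow_zero]))
  have hq11 : q ≠ 11 := fun h => hN11 (h ▸ hqd)
  have hQ : Nat.card (G ⧸ N) = 14520 := by
    rw [← hVH.card_mul_card, hV, hH]
  by_cases hq120 : q ∣ 120
  · -- q is 2, 3 or 5
    obtain ⟨yb, hyb⟩ := exists_prime_orderOf_dvd_card' (G := H) q (hH ▸ hq120)
    obtain ⟨y, hy⟩ := hπs (yb : G ⧸ N)
    have hyord : orderOf (π y) = q := by rw [hy, Subgroup.orderOf_coe, hyb]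
    have hyreg : ¬ 11 ∣ orderOf (π y) := by
      rw [hyord]
      exact fun h => hq11 ((Nat.prime_dvd_prime_iff_eq (by norm_num) hq).1 h).symm
    have hy1 : π y ≠ 1 := fun h => by rw [h, orderOf_one] at hyord; exact hq.ne_one hyord.symm
    have hypow : ∃ k, orderOf y = q ^ k := by
      have h1 : y ^ q ∈ N := by
        rw [← hkerπ, MonoidHom.mem_ker, map_pow, ← hyord, pow_orderOf_eq_one]
      have h2 : orderOf y ∣ q ^ (e + 1) := by
        refine orderOf_dvd_of_pow_eq_one ?_
        rw [pow_succ', pow_mul]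
        exact orderOf_dvd_iff_pow_eq_one.1 (he ▸ Subgroup.orderOf_dvd_natCard N h1)
      obtain ⟨k, -, hk⟩ := (Nat.dvd_prime_pow hq).1 h2
      exact ⟨k, hk⟩
    obtain ⟨n, hn, hn1, hny⟩ := exists_fixed N hNq hNne hypow
    obtain ⟨hceq, hcd⟩ := hcen y hyreg hy1
    set C := Subgroup.centralizer ({y} : Set G)
    let β : C →* G ⧸ N := π.comp C.subtype
    have hsplit : Nat.card C = Nat.card β.range * Nat.card β.ker := by
      rw [← Subgroup.index_ker, Subgroup.index_mul_card]
    have hkq : ∃ j, 1 ≤ j ∧ Nat.card β.ker = q ^ j := by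
      have hd : Nat.card β.ker ∣ q ^ e := by
        rw [← he, ← Subgroup.card_subtype C β.ker]
        refine Subgroup.card_dvd_of_le ?_
        rintro _ ⟨c, hc, rfl⟩
        exact (QuotientGroup.eq_one_iff _).1 hc
      obtain ⟨j, -, hj⟩ := (Nat.dvd_prime_pow hq).1 hd
      refine ⟨j, ?_, hj⟩
      by_contra hj0
      have h1 : β.ker = ⊥ := Subgroup.card_eq_one.1 (by rw [hj, show j = 0 by omega, pow_zero])
      have h2 : (⟨n, Subgroup.mem_centralizer_singleton_iff.2 hny.symm⟩ : C) ∈ β.ker :=
        (QuotientGroup.eq_one_iff n).2 hn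
      rw [h1, Subgroup.mem_bot] at h2
      exact hn1 (congrArg Subtype.val h2)
    obtain ⟨j, hj1, hj⟩ := hkq
    have hrange : q ∣ Nat.card β.range := by
      have h := Subgroup.orderOf_dvd_natCard β.range
        (show π y ∈ β.range from ⟨⟨y, Subgroup.mem_centralizer_singleton_iff.2 rfl⟩, rfl⟩)
      rwa [hyord] at h
    have hq2 : q = 2 := by
      have hsq : q * q ∣ 120 := by
        refine (Nat.mul_dvd_mul hrange ?_).trans (hsplit ▸ hcd)
        rw [hj]
        exact dvd_pow_self q (by omega)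
      have hle : q ≤ 10 := by
        by_contra hgt
        have := Nat.le_of_dvd (by norm_num) hsq
        nlinarith
      have h2l := hq.two_le
      interval_cases q <;> first | rfl | (norm_num at hsq) | (norm_num at hq)
    subst hq2
    -- the centralizer of the central involution is the whole complement
    have huniq : ∀ t s : H, orderOf t = 2 → orderOf s = 2 → t = s := fun t s ht hs =>
      Subtype.ext (involution_facts V H (fun h => by rw [h, Subgroup.card_bot] at hV; norm_num at hV)
        hab hfree t.2 s.2 (by rw [Subgroup.orderOf_coe, ht]) (by rw [Subgroup.orderOf_coe, hs]))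
    have hHC : H ≤ Subgroup.centralizer ({π y} : Set (G ⧸ N)) := fun g hg => by
      rw [Subgroup.mem_centralizer_singleton_iff, hy]
      have h1 := huniq ((⟨g, hg⟩ : H) * yb * (⟨g, hg⟩ : H)⁻¹) yb
        (by rw [← MulAut.conj_apply, MulEquiv.orderOf_eq, hyb]) hyb
      exact mul_inv_eq_iff_eq_mul.1 (congrArg Subtype.val h1)
    have hCH : Subgroup.centralizer ({π y} : Set (G ⧸ N)) = H := by
      refine (Subgroup.eq_of_le_of_card_ge hHC ?_).symm
      rw [hH]
      exact Nat.le_of_dvd (by norm_num) (card_centralizer_dvd V H hVH hV hH hab hfree hyreg hy1)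
    have hle : β.range ≤ H := by
      rintro _ ⟨c, rfl⟩
      rw [← hCH, Subgroup.mem_centralizer_singleton_iff]
      show π (c : G) * π y = π y * π (c : G)
      rw [← map_mul, ← map_mul, Subgroup.mem_centralizer_singleton_iff.1 c.2]
    have hidx : (β.range.subgroupOf H).index = 2 ^ j := by
      have h := (β.range.subgroupOf H).index_mul_card
      rw [Nat.card_congr (Subgroup.subgroupOfEquivOfLe hle).toEquiv, hH] at h
      rw [hsplit, hj, hCH, hH, mul_comm] at hceq
      exact Nat.eq_of_mul_eq_mul_right Nat.card_pos (h.trans hceq.symm)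
    have := two_power_index hH h15 hyb (fun x hx => huniq x yb hx hyb) (β.range.subgroupOf H) hidx
    omega
  · -- the other primes
    set C₀ := Subgroup.centralizer ({n₀} : Set G) with hC₀
    have horb : Nat.card (ConjClasses.mk n₀).carrier = Nat.card N - 1 := by
      have hset : (ConjClasses.mk n₀).carrier = {g : G | g ∈ N ∧ g ≠ 1} := by
        ext g
        rw [ConjClasses.mem_carrier_iff_mk_eq, ConjClasses.mk_eq_mk_iff_isConj]
        constructor
        · intro h
          obtain ⟨c, hc⟩ := isConj_iff.1 h.symm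
          refine ⟨hc ▸ Subgroup.Normal.conj_mem inferInstance n₀ hn₀ c, fun e => ?_⟩
          rw [e] at h
          exact hn₀1 (isConj_one_right.1 h)
        · exact fun h => (hconjN g h.1 h.2).symm
      rw [hset]
      haveI := Fintype.ofFinite N
      rw [Nat.card_congr (show {g : G | g ∈ N ∧ g ≠ 1} ≃ {x : N // x ≠ 1} from
        { toFun := fun g => ⟨⟨g.1, g.2.1⟩, fun e => g.2.2 (congrArg Subtype.val e)⟩
          invFun := fun x => ⟨(x.1 : G), x.1.2, fun e => x.2 (Subtype.ext e)⟩
          left_inv := fun g => rfl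
          right_inv := fun x => rfl }),
        Nat.card_eq_fintype_card, Nat.card_eq_fintype_card, Fintype.card_subtype_compl,
        Fintype.card_subtype_eq]
    have hcount : (Nat.card N - 1) * Nat.card C₀ = Nat.card G := by
      have h1 : Nat.card (MulAction.orbit (ConjAct G) n₀) = Nat.card N - 1 := by
        rw [ConjAct.orbit_eq_carrier_conjClasses, horb]
      have h2 : Nat.card (MulAction.stabilizer (ConjAct G) n₀) = Nat.card C₀ := by
        rw [hC₀, Subgroup.centralizer_eq_comap_stabilizer]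
        exact Nat.card_congr
          { toFun := fun a => ⟨ConjAct.ofConjAct (a : ConjAct G), a.2⟩
            invFun := fun a => ⟨ConjAct.toConjAct (a : G), a.2⟩
            left_inv := fun a => rfl
            right_inv := fun a => rfl }
      rw [← h1, ← h2, Nat.card_congr (MulAction.orbitEquivQuotientStabilizer (ConjAct G) n₀),
        ← Subgroup.card_eq_card_quotient_mul_card_subgroup]
      exact Nat.card_congr ConjAct.ofConjAct.toEquiv
    let β : C₀ →* G ⧸ N := π.comp C₀.subtype
    have hI : Nat.card β.range ∣ 121 := by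
      have h := Subgroup.card_subgroup_dvd_card β.range
      rw [hQ, show 14520 = 120 * 121 by norm_num] at h
      refine Nat.Coprime.dvd_of_dvd_mul_left ?_ h
      refine Nat.coprime_of_dvd fun r hr hrI hr120 => ?_
      haveI := Fact.mk hr
      obtain ⟨cb, hcb⟩ := exists_prime_orderOf_dvd_card' (G := β.range) r hrI
      have hr11 : r ≠ 11 := fun e => by rw [e] at hr120; norm_num at hr120
      have hregc : ¬ 11 ∣ orderOf cb := by
        rw [hcb]; exact fun h => hr11 ((Nat.prime_dvd_prime_iff_eq (by norm_num) hr).1 h).symm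
      obtain ⟨c, hc, hcreg⟩ := regular_lift (p := 11) β.rangeRestrict β.rangeRestrict_surjective hregc
      have hπc : π (c : G) = (cb : G ⧸ N) := congrArg Subtype.val hc
      obtain ⟨-, hcd⟩ := hcen (c : G) (by rw [hπc, Subgroup.orderOf_coe]; exact hregc)
        (fun e => by rw [hπc, OneMemClass.coe_eq_one] at e; rw [e, orderOf_one] at hcb; exact hr.ne_one hcb.symm)
      refine hq120 (dvd_trans ?_ hcd)
      rw [← hordN n₀ hn₀ hn₀1]
      exact Subgroup.orderOf_dvd_natCard _ (Subgroup.mem_centralizer_singleton_iff.2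
        (Subgroup.mem_centralizer_singleton_iff.1 c.2).symm)
    have hker : Nat.card β.ker = Nat.card (C₀ ⊓ N : Subgroup G) := by
      rw [← Subgroup.card_subtype C₀ β.ker]
      congr 2
      ext g
      constructor
      · rintro ⟨c, hc, rfl⟩
        exact ⟨c.2, (QuotientGroup.eq_one_iff _).1 hc⟩
      · rintro ⟨hgC, hgN⟩
        exact ⟨⟨g, hgC⟩, (QuotientGroup.eq_one_iff g).2 hgN, rfl⟩
    have hC₀c : Nat.card C₀ = Nat.card β.range * Nat.card β.ker := by
      rw [← Subgroup.index_ker, Subgroup.index_mul_card]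
    have hG : Nat.card G = 14520 * q ^ e := by
      rw [Subgroup.card_eq_card_quotient_mul_card_subgroup N, hQ, he]
    have hkerd : Nat.card β.ker ∣ q ^ e := hker ▸ he ▸ Subgroup.card_dvd_of_le inf_le_right
    rw [he, hG, hC₀c] at hcount
    have hqe : 1 ≤ q ^ e := Nat.one_le_pow _ _ hq.pos
    have hco1 : Nat.Coprime (q ^ e) (q ^ e - 1) := (Nat.coprime_self_sub_right hqe).2 (Nat.coprime_one_right _)
    have hco2 : Nat.Coprime (q ^ e) (Nat.card β.range) :=
      Nat.Coprime.coprime_dvd_right hI (Nat.Coprime.pow_left e (by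
        rw [show 121 = 11 ^ 2 by norm_num]
        exact ((Nat.coprime_primes hq (by norm_num)).2 hq11).pow_right 2))
    have hke : Nat.card β.ker = q ^ e := by
      refine Nat.dvd_antisymm hkerd ((Nat.Coprime.mul_right hco1 hco2).dvd_of_dvd_mul_left ?_)
      rw [mul_assoc, hcount]
      exact dvd_mul_left _ _
    rw [hke, ← mul_assoc] at hcount
    have heq := Nat.eq_of_mul_eq_mul_right hqe hcount
    obtain ⟨i, hi, hie⟩ := (Nat.dvd_prime_pow (show Nat.Prime 11 by norm_num)).1
      ((show (11 : ℕ) ^ 2 = 121 by norm_num).symm ▸ hI)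
    rw [hie] at heq
    have hqd2 : q ∣ q ^ e := dvd_pow_self q he0
    interval_cases i <;> norm_num at heq
    · have h14 : q ^ e = 14521 := by omega
      rw [h14, show 14521 = 13 * 1117 by norm_num] at hqd2
      have h13 : (13 : ℕ) ∣ q ^ e := by rw [h14]; norm_num
      have h1117 : (1117 : ℕ) ∣ q ^ e := by rw [h14]; norm_num
      have a1 := (Nat.prime_dvd_prime_iff_eq (show Nat.Prime 13 by norm_num) hq).1
        ((show Nat.Prime 13 by norm_num).dvd_of_dvd_pow h13)
      have a2 := (Nat.prime_dvd_prime_iff_eq (show Nat.Prime 1117 by norm_num) hq).1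
        ((show Nat.Prime 1117 by norm_num).dvd_of_dvd_pow h1117)
      omega
    · -- a cyclic kernel of order 1321
      have h1321 : q ^ e = 1321 := by omega
      rw [h1321] at he
      haveI : Fact (Nat.Prime 1321) := ⟨by norm_num⟩
      haveI : IsCyclic N := isCyclic_of_prime_card he
      refine not_solvable hH h15 (Group.isSolvable_of_comm fun a b => ?_)
      set D := H.comap π
      let φ : D →* MulAut N := (MulAut.conjNormal (H := N)).comp D.subtype
      have hker' : ∀ d : D, φ d = 1 → π (d : G) = 1 := by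
        intro d hd
        have hdC : (d : G) ∈ C₀ := by
          rw [hC₀, Subgroup.mem_centralizer_singleton_iff]
          have h := congrArg Subtype.val (DFunLike.congr_fun hd (⟨n₀, hn₀⟩ : N))
          change (d : G) * n₀ * (d : G)⁻¹ = n₀ at h
          exact mul_inv_eq_iff_eq_mul.1 h
        refine orderOf_eq_one_iff.1 (Nat.eq_one_of_dvd_coprimes (by norm_num : Nat.Coprime 120 11)
          (hH ▸ Subgroup.orderOf_dvd_natCard H (Subgroup.mem_comap.1 d.2)) ?_)
        rw [← pow_one 11, ← hie]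
        exact Subgroup.orderOf_dvd_natCard β.range ⟨⟨(d : G), hdC⟩, rfl⟩
      obtain ⟨x, hx⟩ := hπs (a : G ⧸ N)
      obtain ⟨z, hz⟩ := hπs (b : G ⧸ N)
      let dx : D := ⟨x, Subgroup.mem_comap.2 (by rw [hx]; exact a.2)⟩
      let dz : D := ⟨z, Subgroup.mem_comap.2 (by rw [hz]; exact b.2)⟩
      have hcomm : φ (dx * dz * (dz * dx)⁻¹) = 1 := by
        have hc : ∀ u w : MulAut N, u * w = w * u := fun u w => by
          refine (IsCyclic.mulAutMulEquiv N).injective ?_
          rw [map_mul, map_mul, mul_comm]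
        rw [map_mul, map_inv, map_mul, map_mul, hc (φ dx), mul_inv_cancel]
      have h := hker' _ hcomm
      change π (x * z * (z * x)⁻¹) = 1 at h
      rw [map_mul, map_inv, map_mul, map_mul, hx, hz, mul_inv_eq_one] at h
      exact Subtype.ext h
    · have h121 : q ^ e = 121 := by omega
      have h11 : (11 : ℕ) ∣ q ^ e := by rw [h121]; norm_num
      exact hq11 ((Nat.prime_dvd_prime_iff_eq (show Nat.Prime 11 by norm_num) hq).1
        ((show Nat.Prime 11 by norm_num).dvd_of_dvd_pow h11)).symm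

end Cfsg.Agent.Perm.TransCoprimeLower
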